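import Cfsg.Agent.Lib.Leech.Cross
import Cfsg.Agent.Lib.Leech.Orbits

/-!
# Automorphisms of the lattice given by twice their integer matrices

Membership, invertibility and the isometry property are checked on a finite generating list.
-/

set_option autoImplicit false
set_option maxRecDepth 100000

namespace CfsgLib.Leech.CoTwo

open Cfsg CfsgLib.Golay

/-- The vector with the listed coordinates. -/
def toVec (l : List ℤ) : GolayPt → ℤ := fun p => l.getD (ptEquiv p).val 0

theorem toVec_pt (l : List ℤ) {i : ℕ} (h : i < 24) : toVec l (pt i) = l.getD i 0 := by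
  rw [toVec, ptEquiv_pt h]

theorem sum_pt (g : GolayPt → ℤ) : ∑ p, g p = ((List.range 24).map fun i => g (pt i)).sum := by
  rw [← Equiv.sum_comp ptEquiv.symm g]
  simp only [Fin.sum_univ_succ, Finset.univ_eq_empty, Finset.sum_empty, add_zero]
  simp [List.range_succ_eq_map, pt]

/-- The inner product of coordinate lists. -/
def dotL (a b : List ℤ) : ℤ := ((List.range 24).map fun i => a.getD i 0 * b.getD i 0).sum

theorem dotInt_toVec (a b : List ℤ) : dotInt (toVec a) (toVec b) = dotL a b := by
  rw [dotInt, sum_pt, dotL]
  refine congrArg List.sum (List.map_congr_left fun i hi => ?_)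
  rw [toVec_pt a (List.mem_range.1 hi), toVec_pt b (List.mem_range.1 hi)]

/-- The mask of the coordinates congruent to `m + 2` modulo 4. -/
def resMask (m : ℤ) (l : List ℤ) : ℕ :=
  (List.range 24).foldr (fun i acc => if (l.getD i 0 - m) % 4 == 2 then acc ||| 2 ^ i else acc) 0

/-- Membership in the lattice for a coordinate list. -/
def leechTest (l : List ℤ) : Bool :=
  let m := l.getD 0 0 % 2
  let M := resMask m l
  ((List.range 24).all fun i => l.getD i 0 % 2 == m) &&
    (((List.range 24).map fun i => l.getD i 0).sum % 8 == 4 * m % 8) &&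
    ((List.range 24).all fun i => M.testBit i == ((l.getD i 0 - m) % 4 == 2)) && inCode M

theorem mem_of_leechTest {l : List ℤ} (h : leechTest l = true) : toVec l ∈ leechLattice := by
  simp only [leechTest, Bool.and_eq_true, beq_iff_eq, List.all_eq_true, List.mem_range] at h
  obtain ⟨⟨⟨hpar, hsum⟩, hmask⟩, hcode⟩ := h
  set m := l.getD 0 0 % 2 with hm
  set M := resMask m l
  refine mem_leechLattice_iff_form.2 ⟨⟨m, toSet M,
    fun p => (toVec l p - m - 2 * indi (toSet M) p) / 4,
    mem_supports.2 ⟨M, mem_golayList_of_inCode hcode, rfl⟩, fun p => ?_, ?_⟩⟩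
  · have hp := hpar _ (ptEquiv p).isLt
    have hb := hmask _ (ptEquiv p).isLt
    simp only [indi, mem_toSet, toVec]
    by_cases hc : M.testBit (ptEquiv p).val = true
    · rw [if_pos hc]
      rw [hc] at hb
      have := beq_iff_eq.1 hb.symm
      omega
    · rw [if_neg hc]
      rw [Bool.not_eq_true] at hc
      rw [hc] at hb
      have := beq_eq_false_iff_ne.1 hb.symm
      omega
  · rw [sum_pt, List.map_congr_left (g := fun i => l.getD i 0) fun i hi =>
      toVec_pt l (List.mem_range.1 hi)]
    exact hsum

/-- A generating list of the lattice. -/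
def genList : List (List ℤ) :=
  ((List.range 24).map fun i => if i = 23 then -3 else 1) ::
  ((List.range 24).map fun i => if i = 23 then 8 else 0) ::
  ((List.range 23).map fun q => (List.range 24).map fun i =>
    if i = q then 4 else if i = 23 then -4 else 0) ++
  golayBasis.map fun b => (List.range 24).map fun i => if b.testBit i then 2 else 0

theorem genList_ok : genList.all leechTest = true := by decide +kernel

theorem toVec_range (f : ℕ → ℤ) (p : GolayPt) :
    toVec ((List.range 24).map f) p = f (ptEquiv p).val := by
  rw [toVec, List.getD_eq_getElem _ _ (by simpa using (ptEquiv p).isLt)]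
  simp

/-- The generators span the lattice. -/
theorem le_closure :
    leechLattice ≤ AddSubgroup.closure {x | ∃ l ∈ genList, toVec l = x} := by
  set K := AddSubgroup.closure {x | ∃ l ∈ genList, toVec l = x}
  have hgen : ∀ l ∈ genList, toVec l ∈ K := fun l hl => AddSubgroup.subset_closure ⟨l, hl, rfl⟩
  have hodd : (fun p : GolayPt => if p = none then (-3 : ℤ) else 1) ∈ K := by
    convert hgen ((List.range 24).map fun i => if i = 23 then -3 else 1)
      (by simp [genList]) using 1
    funext p
    rw [toVec_range]
    revert p; decide +kernel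
  have haxis : (fun p : GolayPt => if p = none then (8 : ℤ) else 0) ∈ K := by
    convert hgen ((List.range 24).map fun i => if i = 23 then 8 else 0)
      (by simp [genList]) using 1
    funext p
    rw [toVec_range]
    revert p; decide +kernel
  have hpair : ∀ q : GolayPt, (fun p : GolayPt =>
      (if p = q then (4 : ℤ) else 0) - if p = none then 4 else 0) ∈ K := by
    intro q
    by_cases hq : q = none
    · subst hq
      convert K.zero_mem using 1
      funext p; simp
    · have hlt : (ptEquiv q).val < 23 := by revert q; decide +kernel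
      convert hgen ((List.range 24).map fun i =>
        if i = (ptEquiv q).val then 4 else if i = 23 then -4 else 0)
        (by
          simp only [genList, List.mem_cons, List.mem_append, List.mem_map, List.mem_range]
          exact Or.inl (Or.inr (Or.inr ⟨_, hlt, rfl⟩))) using 1
      funext p
      rw [toVec_range]
      revert hq hlt p; revert q; decide +kernel
  have hcode : ∀ n ∈ golayList, (fun p => 2 * indi (toSet n) p) ∈ K := by
    intro n hn
    refine (spanList_induction (P := fun n => n ∈ golayList ∧ (fun p => 2 * indi (toSet n) p) ∈ K)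
      ⟨zero_mem_spanList _, ?_⟩ (fun b hb m hm => ⟨xor_mem_spanList (mem_spanList_self hb) hm.1, ?_⟩)
      n hn).2
    · convert K.zero_mem using 1
      funext p
      simp [indi, mem_toSet]
    · have hB : (fun p => 2 * indi (toSet b) p) ∈ K := by
        convert hgen ((List.range 24).map fun i => if b.testBit i then 2 else 0)
          (by
            simp only [genList, List.mem_cons, List.mem_append, List.mem_map]
            exact Or.inr ⟨b, hb, rfl⟩) using 1
        funext p
        rw [toVec_range]
        simp only [indi, mem_toSet]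
        split <;> rfl
      have hC : CodeSet (toSet b) := mem_supports.2 ⟨b, mem_spanList_self hb, rfl⟩
      have hM : CodeSet (toSet m) := mem_supports.2 ⟨m, hm.1, rfl⟩
      obtain ⟨k, hk⟩ := codeSet_inter_even hC hM
      -- twice the intersection is a combination of pairs of fours
      have hI : (fun p => 4 * indi (toSet b ∩ toSet m) p) ∈ K := by
        have hs : (fun p => 4 * indi (toSet b ∩ toSet m) p) =
            (∑ q ∈ toSet b ∩ toSet m, fun p : GolayPt =>
              (if p = q then (4 : ℤ) else 0) - if p = none then 4 else 0) +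
            (k : ℤ) • fun p : GolayPt => if p = none then (8 : ℤ) else 0 := by
          funext p
          simp only [Pi.add_apply, Finset.sum_apply, Pi.smul_apply, smul_eq_mul,
            Finset.sum_sub_distrib, Finset.sum_ite_eq, Finset.sum_const, nsmul_eq_mul, hk, indi]
          push_cast
          split <;> split <;> ring
        rw [hs]
        exact K.add_mem (K.sum_mem fun q _ => hpair q) (K.zsmul_mem haxis _)
      convert K.sub_mem (K.add_mem hB hm.2) hI using 1
      funext p
      simp only [Pi.add_apply, Pi.sub_apply, toSet_xor]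
      linarith [indi_symmDiff (toSet b) (toSet m) p]
  intro x hx
  obtain ⟨f⟩ := mem_leechLattice_iff_form.1 hx
  obtain ⟨n, hn, hC⟩ := mem_supports.1 f.code
  obtain ⟨c, hc⟩ := f.sum_y
  have e : x = f.m • (fun p : GolayPt => if p = none then (-3 : ℤ) else 1) +
      (fun p => 2 * indi (toSet n) p) +
      ((∑ q, f.y q • fun p : GolayPt => (if p = q then (4 : ℤ) else 0) - if p = none then 4 else 0) +
        (f.m + c) • fun p : GolayPt => if p = none then (8 : ℤ) else 0) := by
    funext p
    simp only [Pi.add_apply, Pi.smul_apply, smul_eq_mul, Finset.sum_apply, mul_sub, mul_ite,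
      mul_zero, Finset.sum_sub_distrib, Finset.sum_ite_eq, Finset.mem_univ, if_true, hC, f.eq p]
    by_cases h : p = none
    · simp only [h, if_true, ← Finset.sum_mul]
      linarith
    · simp only [h, if_false, Finset.sum_const_zero]
      ring
  rw [e]
  exact K.add_mem (K.add_mem (K.zsmul_mem hodd _) (hcode n hn))
    (K.add_mem (K.sum_mem fun q _ => K.zsmul_mem (hpair q) _) (K.zsmul_mem haxis _))

/-- Induction over the lattice. -/
theorem lat_induction {P : (GolayPt → ℤ) → Prop} (h0 : P 0)
    (hadd : ∀ x y, P x → P y → P (x + y)) (hneg : ∀ x, P x → P (-x))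
    (hgen : ∀ l ∈ genList, P (toVec l)) {x : GolayPt → ℤ} (hx : x ∈ leechLattice) : P x := by
  refine AddSubgroup.closure_induction (p := fun y _ => P y) ?_ h0 (fun a b _ _ => hadd a b)
    (fun a _ => hneg a) (le_closure hx)
  rintro _ ⟨l, hl, rfl⟩
  exact hgen l hl

/-- A row applied to coordinates. -/
def rowDot : List (ℕ × ℤ) → (ℕ → ℤ) → ℤ
  | [], _ => 0
  | e :: r, f => e.2 * f e.1 + rowDot r f

theorem rowDot_add : ∀ (r : List (ℕ × ℤ)) (f g : ℕ → ℤ),
    rowDot r (f + g) = rowDot r f + rowDot r g
  | [], _, _ => rfl
  | e :: r, f, g => by simp only [rowDot, rowDot_add r f g, Pi.add_apply]; ring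

theorem rowDot_neg : ∀ (r : List (ℕ × ℤ)) (f : ℕ → ℤ), rowDot r (-f) = -rowDot r f
  | [], _ => rfl
  | e :: r, f => by simp only [rowDot, rowDot_neg r f, Pi.neg_apply]; ring

/-- Twice the image. -/
def applyTwice (M : List (List (ℕ × ℤ))) (x : GolayPt → ℤ) (p : GolayPt) : ℤ :=
  rowDot (M.getD (ptEquiv p).val []) fun j => x (pt j)

theorem applyTwice_add (M : List (List (ℕ × ℤ))) (x y : GolayPt → ℤ) (p : GolayPt) :
    applyTwice M (x + y) p = applyTwice M x p + applyTwice M y p :=
  rowDot_add _ (fun j => x (pt j)) (fun j => y (pt j))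

theorem applyTwice_neg (M : List (List (ℕ × ℤ))) (x : GolayPt → ℤ) (p : GolayPt) :
    applyTwice M (-x) p = -applyTwice M x p :=
  rowDot_neg _ fun j => x (pt j)

/-- The image. -/
def applyMat (M : List (List (ℕ × ℤ))) (x : GolayPt → ℤ) : GolayPt → ℤ :=
  fun p => applyTwice M x p / 2

/-- The image of a coordinate list. -/
def imgList (M : List (List (ℕ × ℤ))) (l : List ℤ) : List ℤ :=
  (List.range 24).map fun i => rowDot (M.getD i []) (fun j => l.getD (j % 24) 0) / 2

theorem applyTwice_toVec (M : List (List (ℕ × ℤ))) (l : List ℤ) (p : GolayPt) :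
    applyTwice M (toVec l) p =
      rowDot (M.getD (ptEquiv p).val []) fun j => l.getD (j % 24) 0 := by
  refine congrArg (rowDot _) (funext fun j => ?_)
  simp [toVec, pt]

theorem applyMat_toVec (M : List (List (ℕ × ℤ))) (l : List ℤ) :
    applyMat M (toVec l) = toVec (imgList M l) := by
  funext p
  rw [applyMat, applyTwice_toVec, imgList, toVec_range]

/-- The check on the generators. -/
def matCheck (M N : List (List (ℕ × ℤ))) : Bool :=
  (genList.all fun l =>
    ((List.range 24).all fun i => rowDot (M.getD i []) (fun j => l.getD (j % 24) 0) % 2 == 0) &&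
      leechTest (imgList M l) &&
      ((List.range 24).all fun i => (imgList N (imgList M l)).getD i 0 == l.getD i 0)) &&
  genList.all fun a => genList.all fun b => dotL (imgList M a) (imgList M b) == dotL a b

variable {M N : List (List (ℕ × ℤ))}

theorem twice_even (h : matCheck M N = true) {x : GolayPt → ℤ} (hx : x ∈ leechLattice) :
    ∀ p, (2 : ℤ) ∣ applyTwice M x p := by
  refine lat_induction (P := fun x => ∀ p, (2 : ℤ) ∣ applyTwice M x p) ?_ ?_ ?_ ?_ hx
  · intro p
    have := applyTwice_neg M 0 p
    simp only [neg_zero] at this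
    exact ⟨0, by linarith⟩
  · intro a b ha hb p
    rw [applyTwice_add]
    exact dvd_add (ha p) (hb p)
  · intro a ha p
    rw [applyTwice_neg]
    exact (ha p).neg_right
  · intro l hl p
    rw [applyTwice_toVec]
    simp only [matCheck, Bool.and_eq_true, List.all_eq_true, List.mem_range, beq_iff_eq] at h
    exact Int.dvd_of_emod_eq_zero ((h.1 l hl).1.1 _ (ptEquiv p).isLt)

theorem applyMat_add (h : matCheck M N = true) {x y : GolayPt → ℤ} (hx : x ∈ leechLattice) :
    applyMat M (x + y) = applyMat M x + applyMat M y := by
  funext p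
  simp only [applyMat, applyTwice_add, Pi.add_apply]
  exact Int.add_ediv_of_dvd_left (twice_even h hx p)

theorem applyMat_neg (h : matCheck M N = true) {x : GolayPt → ℤ} (hx : x ∈ leechLattice) :
    applyMat M (-x) = -applyMat M x := by
  funext p
  simp only [applyMat, applyTwice_neg, Pi.neg_apply]
  exact Int.neg_ediv_of_dvd (twice_even h hx p)

theorem applyMat_zero (M : List (List (ℕ × ℤ))) : applyMat M 0 = 0 := by
  funext p
  have := applyTwice_neg M 0 p
  simp only [neg_zero] at this
  simp only [applyMat, Pi.zero_apply]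
  omega

theorem applyMat_mem (h : matCheck M N = true) {x : GolayPt → ℤ} (hx : x ∈ leechLattice) :
    applyMat M x ∈ leechLattice := by
  refine (lat_induction (P := fun x => x ∈ leechLattice ∧ applyMat M x ∈ leechLattice) ?_ ?_ ?_ ?_
    hx).2
  · exact ⟨zero_mem _, by rw [applyMat_zero]; exact zero_mem _⟩
  · exact fun a b ha hb => ⟨add_mem ha.1 hb.1, by rw [applyMat_add h ha.1]; exact add_mem ha.2 hb.2⟩
  · exact fun a ha => ⟨neg_mem ha.1, by rw [applyMat_neg h ha.1]; exact neg_mem ha.2⟩
  · intro l hl
    have hg := genList_ok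
    simp only [matCheck, Bool.and_eq_true, List.all_eq_true, List.mem_range, beq_iff_eq] at h hg
    exact ⟨mem_of_leechTest (hg l hl), by
      rw [applyMat_toVec]; exact mem_of_leechTest (h.1 l hl).1.2⟩

theorem applyMat_left_inv (h : matCheck M N = true) (h' : matCheck N M = true)
    {x : GolayPt → ℤ} (hx : x ∈ leechLattice) : applyMat N (applyMat M x) = x := by
  refine (lat_induction (P := fun x => x ∈ leechLattice ∧ applyMat N (applyMat M x) = x) ?_ ?_ ?_ ?_
    hx).2
  · exact ⟨zero_mem _, by rw [applyMat_zero, applyMat_zero]⟩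
  · exact fun a b ha hb => ⟨add_mem ha.1 hb.1, by
      rw [applyMat_add h ha.1, applyMat_add h' (applyMat_mem h ha.1), ha.2, hb.2]⟩
  · exact fun a ha => ⟨neg_mem ha.1, by
      rw [applyMat_neg h ha.1, applyMat_neg h' (applyMat_mem h ha.1), ha.2]⟩
  · intro l hl
    have hg := genList_ok
    simp only [matCheck, Bool.and_eq_true, List.all_eq_true, List.mem_range, beq_iff_eq] at h hg
    refine ⟨mem_of_leechTest (hg l hl), ?_⟩
    rw [applyMat_toVec, applyMat_toVec]
    funext p
    exact (h.1 l hl).2 _ (ptEquiv p).isLt

theorem applyMat_dot (h : matCheck M N = true) {x y : GolayPt → ℤ} (hx : x ∈ leechLattice)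
    (hy : y ∈ leechLattice) : dotInt (applyMat M x) (applyMat M y) = dotInt x y := by
  have dadd : ∀ a b c : GolayPt → ℤ, dotInt (a + b) c = dotInt a c + dotInt b c := fun a b c => by
    simp only [dotInt, Pi.add_apply, add_mul, Finset.sum_add_distrib]
  have dneg : ∀ a c : GolayPt → ℤ, dotInt (-a) c = -dotInt a c := fun a c => by
    simp only [dotInt, Pi.neg_apply, neg_mul, Finset.sum_neg_distrib]
  have d0 : ∀ c : GolayPt → ℤ, dotInt 0 c = 0 := fun c => by simp [dotInt]
  have hg := genList_ok
  simp only [List.all_eq_true] at hg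
  have hc := h
  simp only [matCheck, Bool.and_eq_true, List.all_eq_true, List.mem_range, beq_iff_eq] at hc
  have key : ∀ l ∈ genList, dotInt (applyMat M (toVec l)) (applyMat M y) = dotInt (toVec l) y := by
    intro l hl
    rw [dotInt_comm (applyMat M (toVec l)), dotInt_comm (toVec l)]
    refine (lat_induction (P := fun y => y ∈ leechLattice ∧
      dotInt (applyMat M y) (applyMat M (toVec l)) = dotInt y (toVec l)) ?_ ?_ ?_ ?_ hy).2
    · exact ⟨zero_mem _, by rw [applyMat_zero, d0, d0]⟩
    · exact fun a b ha hb => ⟨add_mem ha.1 hb.1, by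
        rw [applyMat_add h ha.1, dadd, dadd, ha.2, hb.2]⟩
    · exact fun a ha => ⟨neg_mem ha.1, by rw [applyMat_neg h ha.1, dneg, dneg, ha.2]⟩
    · intro k hk
      exact ⟨mem_of_leechTest (hg k hk), by
        rw [applyMat_toVec, applyMat_toVec, dotInt_toVec, dotInt_toVec]; exact hc.2 k hk l hl⟩
  refine (lat_induction (P := fun x => x ∈ leechLattice ∧
    dotInt (applyMat M x) (applyMat M y) = dotInt x y) ?_ ?_ ?_ ?_ hx).2
  · exact ⟨zero_mem _, by rw [applyMat_zero, d0, d0]⟩
  · exact fun a b ha hb => ⟨add_mem ha.1 hb.1, by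
      rw [applyMat_add h ha.1, dadd, dadd, ha.2, hb.2]⟩
  · exact fun a ha => ⟨neg_mem ha.1, by rw [applyMat_neg h ha.1, dneg, dneg, ha.2]⟩
  · exact fun l hl => ⟨mem_of_leechTest (hg l hl), key l hl⟩

/-- The automorphism of the lattice. -/
def matAut (M N : List (List (ℕ × ℤ))) (h : matCheck M N = true) (h' : matCheck N M = true) : Co0 :=
  coOf
    { toFun := fun v => ⟨applyMat M v, applyMat_mem h v.2⟩
      invFun := fun v => ⟨applyMat N v, applyMat_mem h' v.2⟩
      left_inv := fun v => Subtype.ext (applyMat_left_inv h h' v.2)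
      right_inv := fun v => Subtype.ext (applyMat_left_inv h' h v.2)
      map_add' := fun v w => Subtype.ext (applyMat_add h v.2) }
    fun v => by
      have := applyMat_dot h v.2 v.2
      simpa [sqNorm, dotInt, pow_two] using this

theorem coe_matAut_smul (h : matCheck M N = true) (h' : matCheck N M = true) (v : leechLattice) :
    ((matAut M N h h' • v : leechLattice) : GolayPt → ℤ) = applyMat M v := rfl

end CfsgLib.Leech.CoTwo
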