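import Mathlib.Data.Nat.Notation
import Mathlib.Data.Int.Notation

/-!
Generated data: an octad of the length-24 code, the roots of the norm doubled lattice on it,
automorphisms of the lattice fixing a short vector and commuting with a sign change.
-/

set_option autoImplicit false

namespace CfsgLib.Leech.CoTwo

/-- The octad. -/
def octMask : ℕ :=
  8391797

/-- Its points, the support of the fixed vector first. -/
def octPts : List ℕ :=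
  [23, 0, 2, 4, 5, 6, 10, 11]

/-- A point outside. -/
def outPt : ℕ :=
  1

/-- Six points of the octad and one outside determine a permutation. -/
def sevenDer : List (ℕ × List ℕ) :=
  [(3, [1573998, 10558]), (0, [2162811, 4196943]), (7, [4325622, 262637]), (8, [1065303, 8421811]), (9, [786999, 2130606]), (12, [45159, 1577201]), (13, [663645, 4726955, 2121909]), (14, [8536111, 8937586, 2121909]), (15, [843820, 5275709]), (16, [1302533, 12656663]), (17, [1302533, 2605066]), (18, [9347075, 2605066]), (19, [9347075, 6053905]), (20, [1302533]), (21, [11100169, 2605066]), (22, [6053905]), (23, [])]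

/-- The permutations fixing the octad pointwise. -/
def transl : List (List ℕ) :=
  [[0, 1, 2, 3, 4, 5, 6, 7, 8, 9, 10, 11, 12, 13, 14, 15, 16, 17, 18, 19, 20, 21, 22, 23],
   [0, 3, 2, 1, 4, 5, 6, 12, 13, 22, 10, 11, 7, 8, 17, 18, 21, 14, 15, 20, 19, 16, 9, 23],
   [0, 7, 2, 12, 4, 5, 6, 1, 15, 14, 10, 11, 3, 18, 9, 8, 20, 22, 13, 21, 16, 19, 17, 23],
   [0, 8, 2, 13, 4, 5, 6, 15, 1, 16, 10, 11, 18, 3, 20, 7, 9, 19, 12, 17, 14, 22, 21, 23],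
   [0, 9, 2, 22, 4, 5, 6, 14, 16, 1, 10, 11, 17, 21, 7, 20, 8, 12, 19, 18, 15, 13, 3, 23],
   [0, 12, 2, 7, 4, 5, 6, 3, 18, 17, 10, 11, 1, 15, 22, 13, 19, 9, 8, 16, 21, 20, 14, 23],
   [0, 13, 2, 8, 4, 5, 6, 18, 3, 21, 10, 11, 15, 1, 19, 12, 22, 20, 7, 14, 17, 9, 16, 23],
   [0, 14, 2, 17, 4, 5, 6, 9, 20, 7, 10, 11, 22, 19, 1, 16, 15, 3, 21, 13, 8, 18, 12, 23],
   [0, 15, 2, 18, 4, 5, 6, 8, 7, 20, 10, 11, 13, 12, 16, 1, 14, 21, 3, 22, 9, 17, 19, 23],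
   [0, 16, 2, 21, 4, 5, 6, 20, 9, 8, 10, 11, 19, 22, 15, 14, 1, 18, 17, 12, 7, 3, 13, 23],
   [0, 17, 2, 14, 4, 5, 6, 22, 19, 12, 10, 11, 9, 20, 3, 21, 18, 1, 16, 8, 13, 15, 7, 23],
   [0, 18, 2, 15, 4, 5, 6, 13, 12, 19, 10, 11, 8, 7, 21, 3, 17, 16, 1, 9, 22, 14, 20, 23],
   [0, 19, 2, 20, 4, 5, 6, 21, 17, 18, 10, 11, 16, 14, 13, 22, 12, 8, 9, 1, 3, 7, 15, 23],
   [0, 20, 2, 19, 4, 5, 6, 16, 14, 15, 10, 11, 21, 17, 8, 9, 7, 13, 22, 3, 1, 12, 18, 23],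
   [0, 21, 2, 16, 4, 5, 6, 19, 22, 13, 10, 11, 20, 9, 18, 17, 3, 15, 14, 7, 12, 1, 8, 23],
   [0, 22, 2, 9, 4, 5, 6, 17, 21, 3, 10, 11, 14, 16, 12, 19, 13, 7, 20, 15, 18, 8, 1, 23]]

/-- The code words missing the octad. -/
def disjCodes : List ℕ :=
  [0, 307594, 762504, 987906, 1164162, 1405448, 1728778, 2019456, 2322816, 2605066, 2675464, 2908802, 3322370, 3539848, 3739786, 4038912, 4346506, 4645632, 4845570, 5063048, 5476616, 5709954, 5780352, 6062602, 6365962, 6656640, 6979970, 7221256, 7397512, 7622914, 8077824, 8385418]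

/-- The roots, numbered by the vectors of the symplectic space. -/
def rootTab : List (List ℤ) :=
  [[4, -4, 0, 0, 0, 0, 0, 0],
   [0, 0, -4, 0, 0, 0, 0, -4],
   [0, 0, -4, 0, 0, 0, 0, 4],
   [0, 0, 0, -4, 0, 4, 0, 0],
   [0, 0, 0, -4, 0, -4, 0, 0],
   [0, 0, 0, 0, -4, 0, 4, 0],
   [0, 0, 0, 0, -4, 0, -4, 0],
   [-2, 2, -2, -2, -2, -2, -2, 2],
   [-2, 2, 2, 2, 2, 2, 2, -2],
   [-2, 2, -2, 2, 2, 2, 2, 2],
   [-2, 2, 2, -2, -2, -2, -2, -2],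
   [-2, 2, 2, -2, 2, -2, 2, -2],
   [-2, 2, -2, 2, -2, 2, -2, 2],
   [-2, 2, 2, 2, -2, 2, -2, -2],
   [-2, 2, -2, -2, 2, -2, 2, 2],
   [0, 0, -4, 0, 0, 0, 4, 0],
   [0, 0, -4, 0, 0, 0, -4, 0],
   [0, 0, 0, 0, 0, 0, -4, -4],
   [0, 0, 0, 0, 0, 0, -4, 4],
   [0, 0, 0, 0, -4, 0, 0, -4],
   [0, 0, 0, 0, -4, 0, 0, 4],
   [0, 0, -4, 0, 4, 0, 0, 0],
   [0, 0, -4, 0, -4, 0, 0, 0],
   [-2, 2, -2, 2, 2, 2, -2, -2],
   [-2, 2, 2, -2, -2, -2, 2, 2],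
   [-2, 2, 2, 2, 2, 2, -2, 2],
   [-2, 2, -2, -2, -2, -2, 2, -2],
   [-2, 2, 2, 2, -2, 2, 2, 2],
   [-2, 2, -2, -2, 2, -2, -2, -2],
   [-2, 2, -2, 2, -2, 2, 2, -2],
   [-2, 2, 2, -2, 2, -2, -2, 2],
   [0, 0, 0, -4, 4, 0, 0, 0],
   [0, 0, 0, -4, -4, 0, 0, 0],
   [0, 0, 0, 0, 0, -4, 4, 0],
   [0, 0, 0, 0, 0, -4, -4, 0],
   [0, 0, 0, 0, -4, 4, 0, 0],
   [0, 0, 0, 0, -4, -4, 0, 0],
   [0, 0, 0, -4, 0, 0, 4, 0],
   [0, 0, 0, -4, 0, 0, -4, 0],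
   [-2, 2, 2, -2, -2, 2, 2, -2],
   [-2, 2, -2, 2, 2, -2, -2, 2],
   [-2, 2, 2, 2, 2, -2, -2, -2],
   [-2, 2, -2, -2, -2, 2, 2, 2],
   [-2, 2, 2, 2, -2, -2, 2, -2],
   [-2, 2, -2, -2, 2, 2, -2, 2],
   [-2, 2, 2, -2, 2, 2, -2, -2],
   [-2, 2, -2, 2, -2, -2, 2, 2],
   [0, 0, 0, 0, 0, -4, 0, -4],
   [0, 0, 0, 0, 0, -4, 0, 4],
   [0, 0, -4, 0, 0, 4, 0, 0],
   [0, 0, -4, 0, 0, -4, 0, 0],
   [0, 0, 0, -4, 0, 0, 0, -4],
   [0, 0, 0, -4, 0, 0, 0, 4],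
   [0, 0, -4, 4, 0, 0, 0, 0],
   [0, 0, -4, -4, 0, 0, 0, 0],
   [-2, 2, 2, 2, 2, -2, 2, 2],
   [-2, 2, -2, -2, -2, 2, -2, -2],
   [-2, 2, -2, 2, 2, -2, 2, -2],
   [-2, 2, 2, -2, -2, 2, -2, 2],
   [-2, 2, 2, -2, 2, 2, 2, 2],
   [-2, 2, -2, 2, -2, -2, -2, -2],
   [-2, 2, -2, -2, 2, 2, 2, -2],
   [-2, 2, 2, 2, -2, -2, -2, 2]]

/-- A code word meeting the octad in six points. -/
def flipMask : ℕ :=
  114548

/-- The number of the first root. -/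
def rootZero : ℕ :=
  0

/-- Twice an automorphism, by rows. -/
def mat0 : List (List (ℕ × ℤ)) :=
  [[(0, 1), (2, 1), (4, -1), (23, 1)],
   [(1, -1), (13, 1), (16, -1), (22, -1)],
   [(5, 1), (6, -1), (10, -1), (11, -1)],
   [(3, -1), (8, 1), (9, -1), (21, -1)],
   [(5, -1), (6, -1), (10, 1), (11, -1)],
   [(5, -1), (6, -1), (10, -1), (11, 1)],
   [(5, -1), (6, 1), (10, -1), (11, -1)],
   [(1, -1), (13, -1), (16, 1), (22, -1)],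
   [(7, 1), (17, -1), (18, -1), (20, -1)],
   [(3, -1), (8, -1), (9, 1), (21, -1)],
   [(0, 1), (2, 1), (4, 1), (23, -1)],
   [(0, -1), (2, 1), (4, 1), (23, 1)],
   [(3, -1), (8, -1), (9, -1), (21, 1)],
   [(12, 1), (14, -1), (15, -1), (19, -1)],
   [(3, 1), (8, -1), (9, -1), (21, -1)],
   [(7, -1), (17, 1), (18, -1), (20, -1)],
   [(12, -1), (14, -1), (15, -1), (19, 1)],
   [(1, 1), (13, -1), (16, -1), (22, -1)],
   [(12, -1), (14, 1), (15, -1), (19, -1)],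
   [(7, -1), (17, -1), (18, 1), (20, -1)],
   [(12, -1), (14, -1), (15, 1), (19, -1)],
   [(7, -1), (17, -1), (18, -1), (20, 1)],
   [(1, -1), (13, -1), (16, -1), (22, 1)],
   [(0, 1), (2, -1), (4, 1), (23, 1)]]

/-- Twice an automorphism, by rows. -/
def mat1 : List (List (ℕ × ℤ)) :=
  [[(23, 2)],
   [(1, 2)],
   [(2, 2)],
   [(19, -2)],
   [(11, -2)],
   [(6, 2)],
   [(10, -2)],
   [(15, -2)],
   [(16, -2)],
   [(17, 2)],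
   [(5, -2)],
   [(4, -2)],
   [(22, 2)],
   [(12, 2)],
   [(21, -2)],
   [(14, -2)],
   [(18, 2)],
   [(7, 2)],
   [(13, 2)],
   [(20, -2)],
   [(3, 2)],
   [(9, -2)],
   [(8, -2)],
   [(0, 2)]]

/-- Twice the automorphism inducing a transvection. -/
def matT : List (List (ℕ × ℤ)) :=
  [[(0, 2)],
   [(1, 2)],
   [(2, -2)],
   [(3, 2)],
   [(4, -2)],
   [(5, -2)],
   [(6, -2)],
   [(7, 2)],
   [(8, -2)],
   [(9, -2)],
   [(10, -2)],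
   [(11, -2)],
   [(12, -2)],
   [(13, -2)],
   [(14, 2)],
   [(15, -2)],
   [(16, -2)],
   [(17, 2)],
   [(18, 2)],
   [(19, 2)],
   [(20, 2)],
   [(21, 2)],
   [(22, 2)],
   [(23, 2)]]

/-- The permutations of the roots. -/
def permTab : List (List ℕ) :=
  [[18, 14, 27, 56, 41, 53, 36, 20, 5, 25, 8, 43, 62, 34, 47, 59, 46, 50, 31, 4, 21, 9, 24, 40, 57, 37, 52, 15, 2, 30, 11, 10, 23, 3, 22, 49, 32, 60, 45, 29, 12, 16, 1, 38, 51, 39, 58, 54, 35, 55, 42, 13, 28, 0, 17, 33, 48, 44, 61, 26, 7, 19, 6],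
   [0, 53, 54, 19, 20, 33, 34, 41, 42, 27, 28, 61, 62, 7, 8, 50, 49, 4, 3, 38, 37, 16, 15, 24, 23, 46, 45, 12, 11, 58, 57, 18, 17, 36, 35, 6, 5, 48, 47, 56, 55, 14, 13, 44, 43, 26, 25, 31, 32, 21, 22, 51, 52, 1, 2, 9, 10, 59, 60, 29, 30, 39, 40]]

/-- The permutation of the roots of the transvection. -/
def permT : List ℕ :=
  [0, 1, 2, 3, 4, 5, 6, 8, 7, 10, 9, 12, 11, 14, 13, 15, 16, 17, 18, 19, 20, 21, 22, 24, 23, 26, 25, 28, 27, 30, 29, 31, 32, 33, 34, 35, 36, 37, 38, 40, 39, 42, 41, 44, 43, 46, 45, 47, 48, 49, 50, 51, 52, 53, 54, 56, 55, 58, 57, 60, 59, 62, 61]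

/-- The orbit of the first root. -/
def orbPts : List ℕ :=
  [0, 18, 31, 3, 10, 56, 19, 8, 28, 48, 4, 38, 5, 42, 2, 11, 35, 32, 41, 20, 45, 47, 53, 33, 1, 13, 27, 54, 43, 61, 49, 6, 23, 17, 16, 14, 21, 37, 39, 26, 36, 34, 7, 15, 12, 44, 55, 40, 24, 50, 46, 9, 60, 29, 52, 22, 59, 62, 51, 57, 58, 25, 30]

/-- Its tree: generator and earlier point. -/
def orbPar : List (ℕ × ℕ) :=
  [(0, 0), (0, 1), (1, 1), (0, 2), (0, 3), (1, 3), (0, 4), (1, 4), (0, 5), (0, 6), (1, 6), (0, 7), (1, 7), (0, 8), (1, 8), (0, 9), (1, 9), (0, 10), (1, 10), (0, 11), (1, 11), (0, 12), (1, 12), (0, 13), (1, 13), (0, 14), (1, 14), (0, 15), (1, 15), (0, 16), (1, 16), (0, 17), (1, 17), (0, 18), (1, 18), (0, 19), (1, 19), (0, 20), (1, 20), (1, 23), (0, 25), (1, 25), (0, 26), (1, 26), (1, 28), (0, 30), (0, 32), (1, 32), (0, 33), (0, 34), (0, 36), (0, 37), (0, 38), (0, 39),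 (0, 41), (0, 43), (0, 44), (0, 45), (0, 48), (0, 50), (1, 50), (1, 52)]

end CfsgLib.Leech.CoTwo
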