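import Cfsg.Agent.Lib.Leech.CoTwo.Checks
import Cfsg.Agent.Lib.Leech.Orbits

/-!
# The action of the centraliser of a sign change on the roots of the octad lattice
-/

set_option autoImplicit false
set_option maxRecDepth 100000

namespace CfsgLib.Leech.CoTwo

open Cfsg CfsgLib.Golay CfsgLib.Leech Matrix CfsgLib.Schur.Tails

theorem outCode : CodeSet (toSet outMask) :=
  mem_supports.2 ⟨outMask, mem_golayList_of_inCode out_code.1, rfl⟩

/-- The sign change outside the octad. -/
def tAut : Co0 := signAut (toSet outMask) outCode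

theorem mem_out {p : GolayPt} : p ∈ toSet outMask ↔ p ∉ toSet octMask := by
  rw [mem_toSet, mem_toSet, out_code.2 _ (ptEquiv p).isLt]
  simp

theorem tAut_smul_eq_self (v : leechLattice) :
    tAut • v = v ↔ ∀ p, p ∉ toSet octMask → (v : GolayPt → ℤ) p = 0 := by
  constructor
  · intro h p hp
    have := congrFun (congrArg (fun w : leechLattice => (w : GolayPt → ℤ)) h) p
    simp only [tAut, coe_signAut_smul, signFlip_apply] at this
    rw [if_pos (mem_out.2 hp)] at this
    omega
  · intro h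
    refine Subtype.ext (funext fun p => ?_)
    rw [tAut, coe_signAut_smul, signFlip_apply]
    split
    · rename_i hp; rw [h p (mem_out.1 hp), neg_zero]
    · rfl

/-- The centraliser inside the stabiliser of the short vector. -/
def centS : Subgroup Co0 :=
  MulAction.stabilizer Co0 Spor.leechU ⊓ Subgroup.centralizer {tAut}

theorem centS_fix_supp {g : Co0} (hg : g ∈ centS) {v : leechLattice}
    (hv : ∀ p, p ∉ toSet octMask → (v : GolayPt → ℤ) p = 0) :
    ∀ p, p ∉ toSet octMask → ((g • v : leechLattice) : GolayPt → ℤ) p = 0 := by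
  rw [← tAut_smul_eq_self] at hv ⊢
  rw [← mul_smul, ← Subgroup.mem_centralizer_singleton_iff.1 hg.2, mul_smul, hv]

theorem full24_getD (f : ℕ → ℤ) : ∀ i < 24,
    (full24 (octPts.map f)).getD i 0 = if octMask.testBit i then f i else 0 := by
  intro i hi
  rw [octMask_ok.2.2.2.2.1 i hi, der_ok.2]
  interval_cases i <;> simp [full24, der_ok.2, List.range_succ_eq_map]

theorem sum_full24 (h : List ℤ) (hh : h.length = 8) (f : ℤ → ℤ) (h0 : f 0 = 0) :
    ((List.range 24).map fun i => f ((full24 h).getD i 0)).sum = (h.map f).sum := by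
  rcases h with _ | ⟨a0, _ | ⟨a1, _ | ⟨a2, _ | ⟨a3, _ | ⟨a4, _ | ⟨a5, _ | ⟨a6, _ | ⟨a7, _ | ⟨a8, t⟩⟩⟩⟩⟩⟩⟩⟩⟩
  all_goals simp at hh
  simp [full24, der_ok.2, List.range_succ_eq_map, h0]
  ring

theorem root_facts (i : Fin 63) : (rootTab.getD i.val []).length = 8 ∧
    leechTest (rootL i.val) = true ∧ dotL (rootL i.val) (rootL i.val) = 32 ∧
    dotL (rootL i.val) uList = 0 := by
  have h := root_ok
  simp only [List.all_eq_true, List.mem_range, Bool.and_eq_true, decide_eq_true_eq, beq_iff_eq] at h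
  obtain ⟨⟨⟨h1, h2⟩, h3⟩, h4⟩ := h i.val i.isLt
  exact ⟨h1, h2, h3, h4⟩

/-- A root as a lattice vector. -/
def rootV (i : Fin 63) : leechLattice :=
  ⟨toVec (rootL i.val), mem_of_leechTest (root_facts i).2.1⟩

theorem coe_rootV (i : Fin 63) : (rootV i : GolayPt → ℤ) = toVec (rootL i.val) := rfl

theorem toVec_negL (l : List ℤ) : toVec (negL l) = -toVec l := by
  funext p
  simp only [toVec, negL, Pi.neg_apply, List.getD_eq_getElem?_getD, List.getElem?_map]
  cases l[(ptEquiv p).val]? <;> simp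

theorem toVec_inj {a b : List ℤ} (ha : a.length = 24) (hb : b.length = 24)
    (h : toVec a = toVec b) : a = b := by
  refine List.ext_getElem (ha.trans hb.symm) fun i h1 h2 => ?_
  have hi : i < 24 := ha ▸ h1
  have := congrFun h (pt i)
  rwa [toVec_pt a hi, toVec_pt b hi, List.getD_eq_getElem _ _ h1, List.getD_eq_getElem _ _ h2] at this

theorem rootL_length (i : ℕ) : (rootL i).length = 24 := by simp [rootL, full24]

theorem rootV_ne {i j : Fin 63} : (rootV i = rootV j → i = j) ∧ rootV i ≠ -rootV j := by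
  obtain ⟨hd1, -, hd2⟩ := List.nodup_append.1 root_distinct
  constructor
  · intro h
    have h' := toVec_inj (rootL_length _) (rootL_length _)
      (congrArg (fun v : leechLattice => (v : GolayPt → ℤ)) h)
    exact Fin.ext (List.inj_on_of_nodup_map hd1 (List.mem_range.2 i.isLt) (List.mem_range.2 j.isLt) h')
  · intro h
    have h1 : toVec (rootL i.val) = toVec (negL (rootL j.val)) := by
      rw [toVec_negL]; exact congrArg (fun v : leechLattice => (v : GolayPt → ℤ)) h
    have h' := toVec_inj (rootL_length _) (by simp [negL, rootL_length]) h1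
    exact hd2 _ (List.mem_map.2 ⟨i.val, List.mem_range.2 i.isLt, rfl⟩) _
      (List.mem_map.2 ⟨j.val, List.mem_range.2 j.isLt, rfl⟩) h'

theorem mem_oct_iff {p : GolayPt} : p ∈ toSet octMask ↔ (ptEquiv p).val ∈ octPts := by
  rw [mem_toSet, octMask_ok.2.2.2.2.1 _ (ptEquiv p).isLt, List.contains_iff_mem]

theorem rootV_supp (i : Fin 63) : ∀ p, p ∉ toSet octMask → (rootV i : GolayPt → ℤ) p = 0 := by
  intro p hp
  rw [mem_oct_iff] at hp
  obtain ⟨h8, -⟩ := root_facts i
  rw [coe_rootV, toVec, rootL, full24,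
    List.getD_eq_getElem _ _ (by simpa using (ptEquiv p).isLt)]
  simp only [List.getElem_map, List.getElem_range]
  rw [List.filter_eq_nil_iff.2 fun e he => ?_]
  · rfl
  · simp only [beq_iff_eq]
    exact fun h => hp (h ▸ (List.of_mem_zip (a := e.1) (b := e.2) he).1)

theorem sqNorm_rootV (i : Fin 63) : sqNorm (rootV i : GolayPt → ℤ) = 32 := by
  rw [coe_rootV, ← (root_facts i).2.2.1, ← dotInt_toVec, sqNorm, dotInt]
  simp [pow_two]

theorem dot_rootV_u (i : Fin 63) :
    dotInt (rootV i : GolayPt → ℤ) (Spor.leechU : GolayPt → ℤ) = 0 := by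
  rw [coe_rootV, show ((Spor.leechU : leechLattice) : GolayPt → ℤ) = toVec uList from
    funext fun p => (uList_eq p).symm, dotInt_toVec]
  exact (root_facts i).2.2.2

/-- The vectors of squared length 32 on the octad orthogonal to the fixed vector are the roots. -/
theorem root_classify {v : leechLattice} (hs : ∀ p, p ∉ toSet octMask → (v : GolayPt → ℤ) p = 0)
    (hn : sqNorm (v : GolayPt → ℤ) = 32)
    (hu : dotInt (v : GolayPt → ℤ) (Spor.leechU : GolayPt → ℤ) = 0) :
    ∃ j, v = rootV j ∨ v = -rootV j := by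
  set x : GolayPt → ℤ := (v : GolayPt → ℤ) with hx
  obtain ⟨m, hpar, hsum, hcode⟩ := mem_leechLattice_iff.1 v.2
  rw [← hx] at hpar hsum hcode
  have hout : pt outPt ∉ toSet octMask := by
    rw [pt_mem_toSet octMask_ok.2.2.2.2.2.2.2.2.2, octMask_ok.2.2.2.2.2.2.2.2.1]; simp
  have hm : m % 2 = 0 := by
    have h := hpar (pt outPt)
    rw [hs _ hout] at h
    exact h.symm
  -- the coordinates two modulo four form the octad or nothing
  set C := Finset.univ.filter fun p => x p ≡ 2 [ZMOD 4] with hC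
  have hCsub : C ⊆ toSet octMask := by
    intro p hp
    by_contra hc
    have := (Finset.mem_filter.1 hp).2
    rw [hs p hc] at this
    exact absurd this (by decide)
  have hcard : (toSet octMask).card = 8 := by decide +kernel
  have hCcase : C = ∅ ∨ C = toSet octMask := by
    rcases C.eq_empty_or_nonempty with h | h
    · exact Or.inl h
    · exact Or.inr (Finset.eq_of_subset_of_card_le hCsub (hcard ▸ eight_le_card (hcode 2) h))
  set l := octPts.map fun i => x (pt i) with hl
  have hlen : l.length = 8 := by simp [hl, octMask_ok.2.2.1]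
  have hxl : x = toVec (full24 l) := by
    funext p
    rw [toVec, hl, full24_getD _ _ (ptEquiv p).isLt, pt_ptEquiv]
    split
    · rfl
    · rename_i h
      exact hs p (by rw [mem_toSet]; exact h)
  have hsq : (l.map fun a => a * a).sum = 32 := by
    rw [← hn, sqNorm, sum_pt, ← sum_full24 l hlen (fun a => a * a) (by norm_num)]
    refine congrArg List.sum (List.map_congr_left fun i hi => ?_)
    rw [hxl, toVec_pt _ (List.mem_range.1 hi), pow_two]
  have hmod : l.sum % 8 = 0 := by
    have h := hsum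
    rw [sum_pt, List.map_congr_left (g := fun i => (full24 l).getD i 0) (fun i hi => by
      show x (pt i) = _; rw [hxl, toVec_pt _ (List.mem_range.1 hi)]),
      sum_full24 l hlen (fun a => a) rfl, List.map_id'] at h
    unfold Int.ModEq at h
    omega
  have hu' : 4 * l.getD 0 0 + 4 * l.getD 1 0 = 0 := by
    have h := hu
    rw [show ((Spor.leechU : leechLattice) : GolayPt → ℤ) = toVec uList from
      funext fun p => (uList_eq p).symm, hxl, dotInt_toVec] at h
    rw [← h]
    rcases l with _ | ⟨a0, _ | ⟨a1, _ | ⟨a2, _ | ⟨a3, _ | ⟨a4, _ | ⟨a5, _ | ⟨a6, _ | ⟨a7, _ | ⟨a8, t⟩⟩⟩⟩⟩⟩⟩⟩⟩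
    all_goals simp at hlen
    simp [dotL, uList, full24, der_ok.2, List.range_succ_eq_map]
    ring
  have hsmall : ∀ p, x p ^ 2 ≤ 32 := fun p => abs_le_of_sqNorm (le_of_eq hn) p
  have hev : ∀ p, x p % 2 = 0 := fun p => by
    have h : x p % 2 = m % 2 := hpar p
    omega
  have hmem : l ∈ cands [-2, 2] 8 ∨ l ∈ cands [-4, 0, 4] 8 := by
    rcases hCcase with hc | hc
    · refine Or.inr (mem_cands hlen fun a ha => ?_)
      obtain ⟨i, -, rfl⟩ := List.mem_map.1 ha
      have h1 : ¬ x (pt i) % 4 = 2 := fun h => by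
        have : pt i ∈ C := Finset.mem_filter.2 ⟨Finset.mem_univ _, h⟩
        rw [hc] at this; exact Finset.notMem_empty _ this
      have h2 := hev (pt i)
      have h3 := hsmall (pt i)
      have h4 : -5 ≤ x (pt i) ∧ x (pt i) ≤ 5 := ⟨by nlinarith, by nlinarith⟩
      simp only [List.mem_cons, List.not_mem_nil, or_false]
      omega
    · refine Or.inl (mem_cands hlen fun a ha => ?_)
      obtain ⟨i, hi, rfl⟩ := List.mem_map.1 ha
      have h1 : x (pt i) % 4 = 2 := by
        have hp : pt i ∈ toSet octMask := by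
          rw [mem_oct_iff, ptEquiv_pt (octMask_ok.2.2.2.2.2.1 i hi)]; exact hi
        exact (Finset.mem_filter.1 (hc.symm ▸ hp : pt i ∈ C)).2
      have h3 := hsmall (pt i)
      have h4 : -5 ≤ x (pt i) ∧ x (pt i) ≤ 5 := ⟨by nlinarith, by nlinarith⟩
      simp only [List.mem_cons, List.not_mem_nil, or_false]
      omega
  have hok : candOk l = true := by
    rcases hmem with h | h
    · exact List.all_eq_true.1 cands_ok.1 l h
    · exact List.all_eq_true.1 cands_ok.2 l h
  simp only [candOk, hsq, hu', hmod, beq_self_eq_true, Bool.and_self, Bool.not_true, Bool.false_or,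
    Bool.or_eq_true, List.contains_iff_mem] at hok
  rcases hok with h | h
  · obtain ⟨j, hj, e⟩ := List.getElem_of_mem h
    refine ⟨⟨j, rootTab_length ▸ hj⟩, Or.inl (Subtype.ext ?_)⟩
    rw [coe_rootV, rootL, List.getD_eq_getElem _ _ hj, e]
    exact hxl
  · obtain ⟨j, hj, e⟩ := List.getElem_of_mem h
    refine ⟨⟨j, rootTab_length ▸ hj⟩, Or.inr (Subtype.ext ?_)⟩
    rw [AddSubgroup.coe_neg, coe_rootV, rootL, List.getD_eq_getElem _ _ hj, e, ← hx, hxl, ← toVec_negL]
    refine congrArg toVec ?_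
    rcases l with _ | ⟨a0, _ | ⟨a1, _ | ⟨a2, _ | ⟨a3, _ | ⟨a4, _ | ⟨a5, _ | ⟨a6, _ | ⟨a7, _ | ⟨a8, t⟩⟩⟩⟩⟩⟩⟩⟩⟩
    all_goals simp at hlen
    simp [negL, full24, der_ok.2, List.range_succ_eq_map]

theorem exists_img (g : centS) (i : Fin 63) :
    ∃ j, (g : Co0) • rootV i = rootV j ∨ (g : Co0) • rootV i = -rootV j := by
  refine root_classify (centS_fix_supp g.2 (rootV_supp i)) ?_ ?_
  · rw [sqNorm_smul_co, sqNorm_rootV]
  · have h := dot_smul_co (g : Co0) (rootV i) Spor.leechU
    rw [MulAction.mem_stabilizer_iff.1 g.2.1] at h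
    rw [h, dot_rootV_u]

/-- The index of the image of a root. -/
noncomputable def imgIdx (g : centS) (i : Fin 63) : Fin 63 := (exists_img g i).choose

theorem imgIdx_spec (g : centS) (i : Fin 63) :
    (g : Co0) • rootV i = rootV (imgIdx g i) ∨ (g : Co0) • rootV i = -rootV (imgIdx g i) :=
  (exists_img g i).choose_spec

theorem imgIdx_unique {g : centS} {i j : Fin 63}
    (h : (g : Co0) • rootV i = rootV j ∨ (g : Co0) • rootV i = -rootV j) : imgIdx g i = j := by
  rcases imgIdx_spec g i with a | a <;> rcases h with b | b <;> rw [a] at b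
  · exact rootV_ne.1 b
  · exact absurd b rootV_ne.2
  · exact absurd b.symm rootV_ne.2
  · exact rootV_ne.1 (neg_injective b)

theorem imgIdx_one (i : Fin 63) : imgIdx 1 i = i :=
  imgIdx_unique (Or.inl (by rw [OneMemClass.coe_one, one_smul]))

theorem imgIdx_mul (g h : centS) (i : Fin 63) : imgIdx (g * h) i = imgIdx g (imgIdx h i) := by
  apply imgIdx_unique
  rw [Subgroup.coe_mul, mul_smul]
  rcases imgIdx_spec h i with a | a <;> rcases imgIdx_spec g (imgIdx h i) with b | b <;>
    simp [a, b, smul_neg']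

/-- The permutation of the root pairs. -/
noncomputable def rootPerm : centS →* Equiv.Perm (Fin 63) where
  toFun g :=
    { toFun := imgIdx g
      invFun := imgIdx g⁻¹
      left_inv := fun i => by rw [← imgIdx_mul, inv_mul_cancel, imgIdx_one]
      right_inv := fun i => by rw [← imgIdx_mul, mul_inv_cancel, imgIdx_one] }
  map_one' := Equiv.ext imgIdx_one
  map_mul' g h := Equiv.ext (imgIdx_mul g h)

theorem rootPerm_form (g : centS) (i j : Fin 63) :
    sympForm 3 (ZMod 2) (SpSix.bits ((rootPerm g i).val + 1)) (SpSix.bits ((rootPerm g j).val + 1)) =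
      sympForm 3 (ZMod 2) (SpSix.bits (i.val + 1)) (SpSix.bits (j.val + 1)) := by
  rw [← (root_form _ _).2, ← (root_form i j).2]
  have key : ∀ a b : Fin 63, dotInt (rootV a : GolayPt → ℤ) (rootV b : GolayPt → ℤ) =
      dotL (rootL a.val) (rootL b.val) := fun a b => dotInt_toVec _ _
  have h := dot_smul_co (g : Co0) (rootV i) (rootV j)
  have hsign : dotL (rootL (imgIdx g i).val) (rootL (imgIdx g j).val) = dotL (rootL i.val) (rootL j.val) ∨
      dotL (rootL (imgIdx g i).val) (rootL (imgIdx g j).val) = -dotL (rootL i.val) (rootL j.val) := by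
    rw [← key, ← key]
    rcases imgIdx_spec g i with a | a <;> rcases imgIdx_spec g j with b | b <;>
      rw [a, b] at h <;>
      simp only [AddSubgroup.coe_neg, dotInt, Pi.neg_apply, neg_mul, mul_neg, neg_neg,
        Finset.sum_neg_distrib] at h ⊢
    · exact Or.inl h
    · exact Or.inr (by linarith)
    · exact Or.inr (by linarith)
    · exact Or.inl h
  obtain ⟨h1, -⟩ := root_form i j
  show ((dotL (rootL (imgIdx g i).val) (rootL (imgIdx g j).val) / 16 : ℤ) : ZMod 2) = _
  rcases hsign with e | e <;> rw [e]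
  rw [Int.neg_ediv_of_dvd (Int.dvd_of_emod_eq_zero h1), Int.cast_neg, ZMod.neg_eq_self_mod_two]

/-- The permutation of all vectors. -/
noncomputable def vecMap (g : centS) (v : SpSix.I → ZMod 2) : SpSix.I → ZMod 2 :=
  if h : v = 0 then 0 else (SpSix.pts (rootPerm g (SpSix.pts.symm ⟨v, h⟩))).1

theorem vecMap_bits (g : centS) (i : Fin 63) :
    vecMap g (SpSix.bits (i.val + 1)) = SpSix.bits ((rootPerm g i).val + 1) := by
  have hne : SpSix.bits (i.val + 1) ≠ 0 := (SpSix.vec i).2
  rw [vecMap, dif_neg hne, show (⟨SpSix.bits (i.val + 1), hne⟩ : {v : SpSix.I → ZMod 2 // v ≠ 0}) =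
    SpSix.pts i from rfl, Equiv.symm_apply_apply]
  rfl

theorem eq_zero_or_bits (v : SpSix.I → ZMod 2) : v = 0 ∨ ∃ i : Fin 63, v = SpSix.bits (i.val + 1) := by
  by_cases h : v = 0
  · exact Or.inl h
  · exact Or.inr ⟨SpSix.pts.symm ⟨v, h⟩,
      (congrArg Subtype.val (SpSix.pts.apply_symm_apply ⟨v, h⟩)).symm⟩

theorem vecMap_zero (g : centS) : vecMap g 0 = 0 := dif_pos rfl

theorem vecMap_mul (g h : centS) (v : SpSix.I → ZMod 2) :
    vecMap (g * h) v = vecMap g (vecMap h v) := by
  rcases eq_zero_or_bits v with rfl | ⟨i, rfl⟩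
  · simp [vecMap_zero]
  · rw [vecMap_bits, vecMap_bits, vecMap_bits, map_mul, Equiv.Perm.mul_apply]

theorem vecMap_one (v : SpSix.I → ZMod 2) : vecMap 1 v = v := by
  rcases eq_zero_or_bits v with rfl | ⟨i, rfl⟩
  · simp [vecMap_zero]
  · rw [vecMap_bits, map_one]; rfl

theorem vecMap_form (g : centS) (v w : SpSix.I → ZMod 2) :
    sympForm 3 (ZMod 2) (vecMap g v) (vecMap g w) = sympForm 3 (ZMod 2) v w := by
  rcases eq_zero_or_bits v with rfl | ⟨i, rfl⟩
  · simp [vecMap_zero, sympForm]
  rcases eq_zero_or_bits w with rfl | ⟨j, rfl⟩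
  · simp [vecMap_zero, sympForm]
  rw [vecMap_bits, vecMap_bits, rootPerm_form]

theorem vecMap_add (g : centS) (v w : SpSix.I → ZMod 2) :
    vecMap g (v + w) = vecMap g v + vecMap g w := by
  refine sub_eq_zero.1 (Classical.sympForm_nondeg fun z => ?_)
  obtain ⟨z, rfl⟩ : ∃ z', vecMap g z' = z :=
    ⟨vecMap g⁻¹ z, by rw [← vecMap_mul, mul_inv_cancel, vecMap_one]⟩
  rw [Classical.sympForm_sub_left, Classical.sympForm_add_left, vecMap_form, vecMap_form, vecMap_form,
    Classical.sympForm_add_left, sub_self]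

/-- The linear map of an element. -/
noncomputable def vecLin (g : centS) : (SpSix.I → ZMod 2) →ₗ[ZMod 2] (SpSix.I → ZMod 2) :=
  (AddMonoidHom.mk' (vecMap g) (vecMap_add g)).toZModLinearMap 2

theorem vecLin_mulVec (g : centS) (v : SpSix.I → ZMod 2) :
    LinearMap.toMatrix' (vecLin g) *ᵥ v = vecMap g v := by
  rw [LinearMap.toMatrix'_mulVec]
  rfl

/-- The homomorphism onto the symplectic group. -/
noncomputable def toSp : centS →* SpSix.Sp2 :=
  MonoidHom.mk' (fun g => ⟨LinearMap.toMatrix' (vecLin g), Classical.mem_sp_iff.2 fun u v => by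
      rw [vecLin_mulVec, vecLin_mulVec, vecMap_form]⟩)
    fun a b => Classical.sp_ext fun v => by
      rw [Submonoid.coe_mul, ← mulVec_mulVec, vecLin_mulVec, vecLin_mulVec, vecLin_mulVec, vecMap_mul]

theorem toSp_mulVec (g : centS) (v : SpSix.I → ZMod 2) : (toSp g).1 *ᵥ v = vecMap g v :=
  vecLin_mulVec g v

theorem toSp_eq_one_iff (g : centS) : toSp g = 1 ↔ ∀ i, rootPerm g i = i := by
  constructor
  · intro h i
    have e := toSp_mulVec g (SpSix.bits (i.val + 1))
    rw [h, Submonoid.coe_one, one_mulVec, vecMap_bits] at e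
    exact (SpSix.pts.injective (Subtype.ext e)).symm
  · intro h
    refine Classical.sp_ext fun v => ?_
    rw [toSp_mulVec, Submonoid.coe_one, one_mulVec]
    rcases eq_zero_or_bits v with rfl | ⟨i, rfl⟩
    · rw [vecMap_zero]
    · rw [vecMap_bits, h]

end CfsgLib.Leech.CoTwo
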