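import Cfsg.Agent.Lib.Leech.CoTwo.Data
import Cfsg.Agent.Lib.Leech.CoTwo.LatMat
import Cfsg.Agent.Lib.Tails.SpSixModel
import Cfsg.Agent.Lib.Golay.M24
import Cfsg.Prelude.Def_Spor_Conway

/-!
# Kernel checks of the tables of the involution centraliser
-/

set_option autoImplicit false
set_option maxRecDepth 100000

namespace CfsgLib.Leech.CoTwo

open Cfsg CfsgLib.Golay CfsgLib.Schur.Tails

/-- The coordinates from the values on the octad. -/
def full24 (h : List ℤ) : List ℤ :=
  (List.range 24).map fun i => (((octPts.zip h).filter fun e => e.1 == i).map fun e => e.2).sum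

/-- A root. -/
def rootL (i : ℕ) : List ℤ := full24 (rootTab.getD i [])

/-- The fixed vector. -/
def uList : List ℤ := full24 [4, 4, 0, 0, 0, 0, 0, 0]

/-- The negated list. -/
def negL (l : List ℤ) : List ℤ := l.map fun a => -a

/-- The complement of the octad. -/
def outMask : ℕ := 16777215 ^^^ octMask

/-- The transpose. -/
def trMat (M : List (List (ℕ × ℤ))) : List (List (ℕ × ℤ)) :=
  (List.range 24).map fun i => (List.range 24).filterMap fun j =>
    ((M.getD j []).find? fun e => e.1 == i).map fun e => (j, e.2)

/-- All lists of a length over given values. -/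
def cands (vals : List ℤ) : ℕ → List (List ℤ)
  | 0 => [[]]
  | n + 1 => vals.flatMap fun a => (cands vals n).map (a :: ·)

theorem mem_cands {vals : List ℤ} : ∀ {n : ℕ} {l : List ℤ}, l.length = n → (∀ a ∈ l, a ∈ vals) →
    l ∈ cands vals n
  | 0, l, hl, _ => by simp [cands, List.length_eq_zero_iff.1 hl]
  | n + 1, [], hl, _ => by simp at hl
  | n + 1, a :: l, hl, h => by
    simp only [cands, List.mem_flatMap, List.mem_map]
    exact ⟨a, h a List.mem_cons_self, l, mem_cands (by simpa using hl)
      (fun b hb => h b (List.mem_cons_of_mem _ hb)), rfl⟩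

/-- A candidate is not a root or is one of the listed ones. -/
def candOk (h : List ℤ) : Bool :=
  !((h.map fun a => a * a).sum == 32 && 4 * h.getD 0 0 + 4 * h.getD 1 0 == 0 && h.sum % 8 == 0) ||
    rootTab.contains h || rootTab.contains (negL h)

theorem cands_ok : (cands [-2, 2] 8).all candOk = true ∧ (cands [-4, 0, 4] 8).all candOk = true := by
  decide +kernel

theorem octMask_ok : inCode octMask = true ∧ bitCount octMask = 8 ∧ octPts.length = 8 ∧
    octPts.Nodup ∧ (∀ i < 24, octMask.testBit i = octPts.contains i) ∧ (∀ i ∈ octPts, i < 24) ∧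
    octPts.getD 0 0 = 23 ∧ octPts.getD 1 0 = 0 ∧ octMask.testBit outPt = false ∧ outPt < 24 := by
  decide +kernel

theorem out_code : inCode outMask = true ∧
    ∀ i < 24, outMask.testBit i = !octMask.testBit i := by
  decide +kernel

theorem uList_eq : ∀ p : GolayPt, toVec uList p = Spor.vecU p := by decide +kernel

theorem root_ok : (List.range 63).all (fun i => decide ((rootTab.getD i []).length = 8) &&
    leechTest (rootL i) && dotL (rootL i) (rootL i) == 32 && dotL (rootL i) uList == 0) = true := by
  decide +kernel

theorem rootTab_length : rootTab.length = 63 := by decide +kernel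

theorem root_distinct :
    (((List.range 63).map rootL) ++ (List.range 63).map fun i => negL (rootL i)).Nodup := by
  decide +kernel

theorem root_form : ∀ i j : Fin 63, dotL (rootL i.val) (rootL j.val) % 16 = 0 ∧
    ((dotL (rootL i.val) (rootL j.val) / 16 : ℤ) : ZMod 2) =
      sympForm 3 (ZMod 2) (SpSix.bits (i.val + 1)) (SpSix.bits (j.val + 1)) := by
  decide +kernel

theorem root_conn : (List.range 63).all (fun i => (List.range 63).any fun k =>
    !(dotL (rootL i) (rootL k) == 0) && !(dotL (rootL k) (rootL 0) == 0)) = true := by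
  decide +kernel

/-- The frame vectors are sums or differences of two roots or of a root and the fixed vector. -/
def axisOk : Bool :=
  (List.range 8).all fun k =>
    let e := (List.range 24).map fun i => if i = octPts.getD k 0 then (8 : ℤ) else 0
    if k < 2 then
      (List.range 63).any fun a => List.zipWith (· + ·) uList (rootL a) == e ||
        List.zipWith (· - ·) uList (rootL a) == e
    else (List.range 63).any fun a => (List.range 63).any fun b =>
      List.zipWith (· + ·) (rootL a) (rootL b) == e || List.zipWith (· - ·) (rootL a) (rootL b) == e ||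
        List.zipWith (· + ·) (negL (rootL a)) (negL (rootL b)) == e

theorem axisOk_ok : axisOk = true := by decide +kernel

/-- The check of an automorphism with its action on the roots. -/
def genCheck (M : List (List (ℕ × ℤ))) (P : List ℕ) : Bool :=
  matCheck M (trMat M) && matCheck (trMat M) M &&
  ((List.range 24).all fun i => (M.getD i []).all fun e =>
    decide (e.1 < 24) && octMask.testBit i == octMask.testBit e.1) &&
  imgList M uList == uList &&
  (List.range 63).all fun i => decide (P.getD i 0 < 63) &&
    (imgList M (rootL i) == rootL (P.getD i 0) || imgList M (rootL i) == negL (rootL (P.getD i 0)))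

theorem gen0_ok : genCheck mat0 (permTab.getD 0 []) = true := by decide +kernel

theorem gen1_ok : genCheck mat1 (permTab.getD 1 []) = true := by decide +kernel

theorem genT_ok : genCheck matT permT = true := by decide +kernel

theorem permT_spT : ∀ (i : Fin 63) (k : SpSix.I), SpSix.bits (permT.getD i.val 0 + 1) k =
    SpSix.bits (i.val + 1) k +
      sympForm 3 (ZMod 2) (SpSix.bits (i.val + 1)) (SpSix.bits (rootZero + 1)) *
        SpSix.bits (rootZero + 1) k := by
  decide +kernel

theorem orb_ok : orbPts.getD 0 0 = rootZero ∧ orbPts.length = 63 ∧ orbPar.length = 62 ∧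
    (∀ k < 62, (orbPar.getD k (0, 0)).2 ≤ k ∧ (orbPar.getD k (0, 0)).1 < 2 ∧
      orbPts.getD (k + 1) 0 = (permTab.getD (orbPar.getD k (0, 0)).1 []).getD
        (orbPts.getD (orbPar.getD k (0, 0)).2 0) 0) ∧
    (∀ i < 63, orbPts.contains i = true) ∧ rootZero < 63 := by
  decide +kernel

/-- A translation. -/
def tr (a : ℕ) : List ℕ := transl.getD a []

/-- A code word missing the octad. -/
def dc (b : ℕ) : ℕ := disjCodes.getD b 0

theorem transl_ok : transl.length = 16 ∧ (∀ a < 16, m24Test (tr a) = true ∧ validL 24 (tr a) = true ∧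
    ∀ i ∈ octPts, (tr a).getD i 0 = i) ∧
    (∀ i < 24, octMask.testBit i = false → ∃ a < 16, (tr a).getD outPt 0 = i) ∧
    (∀ a < 16, ∀ b < 16, (tr a).getD outPt 0 = (tr b).getD outPt 0 → a = b) := by
  decide +kernel

theorem tr_zero : ∀ i < 24, (tr 0).getD i 0 = i := by decide +kernel

theorem tr_comm : ∀ a < 16, ∀ b < 16, ∀ i < 24,
    (tr a).getD ((tr b).getD i 0) 0 = (tr b).getD ((tr a).getD i 0) 0 := by
  decide +kernel

theorem tr_sq : ∀ a < 16, ∀ i < 24, (tr a).getD ((tr a).getD i 0) 0 = i := by decide +kernel

theorem disj_ok : disjCodes.length = 32 ∧ disjCodes.Nodup ∧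
    (∀ b < 32, inCode (dc b) = true ∧ dc b &&& octMask = 0 ∧ dc b < 16777216) ∧
    (golayList.all fun n => !(n &&& octMask == 0) || disjCodes.contains n) = true := by
  decide +kernel

theorem dc_move : ∀ a < 16, ∀ b < 32,
    imgMask (tr a) (dc b) ^^^ dc b = 0 ∨ imgMask (tr a) (dc b) ^^^ dc b = outMask := by
  decide +kernel

theorem dc_fixed : ∀ b < 32, dc b = 0 ∨ dc b = outMask ∨
    ∃ a < 16, imgMask (tr a) (dc b) ≠ dc b := by
  decide +kernel

theorem tr_moves : ∀ a < 16, a = 0 ∨ ∃ b < 32, imgMask (tr a) (dc b) ≠ dc b := by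
  decide +kernel

theorem der_ok : fixCheck [2, 4, 5, 6, 10, 11, outPt] sevenDer = true ∧
    octPts = [23, 0, 2, 4, 5, 6, 10, 11] := by
  decide +kernel

end CfsgLib.Leech.CoTwo
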