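import Cfsg.Agent.Lib.Leech.CoTwo.Roots
import Cfsg.Agent.Lib.Classical.SpBasic

/-!
# The action on the roots is onto
-/

set_option autoImplicit false
set_option maxRecDepth 100000

namespace CfsgLib.Leech.CoTwo

open Cfsg CfsgLib.Golay CfsgLib.Leech Matrix CfsgLib.Schur.Tails CfsgLib.Classical

variable {M : List (List (ℕ × ℤ))} {P : List ℕ}

theorem rowDot_congr : ∀ (r : List (ℕ × ℤ)) {f g : ℕ → ℤ}, (∀ e ∈ r, f e.1 = g e.1) →
    rowDot r f = rowDot r g
  | [], _, _, _ => rfl
  | e :: r, f, g, h => by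
    simp only [rowDot, h e List.mem_cons_self,
      rowDot_congr r (fun x hx => h x (List.mem_cons_of_mem _ hx))]

theorem exists_gen (h : genCheck M P = true) :
    ∃ g : centS, ∀ i : Fin 63, (rootPerm g i).val = P.getD i.val 0 := by
  simp only [genCheck, Bool.and_eq_true, List.all_eq_true, List.mem_range, decide_eq_true_eq,
    Bool.or_eq_true, beq_iff_eq] at h
  obtain ⟨⟨⟨⟨hM, hN⟩, hblock⟩, hu⟩, hroot⟩ := h
  set g0 : Co0 := matAut M (trMat M) hM hN with hg0
  have hsmul : ∀ v : leechLattice, ((g0 • v : leechLattice) : GolayPt → ℤ) = applyMat M v :=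
    coe_matAut_smul hM hN
  have hU : ((Spor.leechU : leechLattice) : GolayPt → ℤ) = toVec uList :=
    funext fun p => (uList_eq p).symm
  have hmem : g0 ∈ centS := by
    refine ⟨Subtype.ext ?_, Subgroup.mem_centralizer_singleton_iff.2 (co_ext fun v => Subtype.ext ?_)⟩
    · show ((g0 • Spor.leechU : leechLattice) : GolayPt → ℤ) = _
      rw [hsmul, hU, applyMat_toVec, hu]
    · rw [mul_smul, mul_smul, hsmul]
      funext p
      have h2 := twice_even hM v.2 p
      rw [tAut, coe_signAut_smul, coe_signAut_smul, signFlip_apply, hsmul]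
      have hrow : ∀ e ∈ M.getD (ptEquiv p).val [], (pt e.1 ∈ toSet outMask ↔ p ∈ toSet outMask) := by
        intro e he
        obtain ⟨h1, h3⟩ := hblock _ (ptEquiv p).isLt e he
        rw [mem_out, mem_out, pt_mem_toSet h1, mem_toSet, h3]
      unfold applyMat applyTwice at *
      by_cases hp : p ∈ toSet outMask
      · rw [if_pos hp, rowDot_congr _ (g := -fun j => (v : GolayPt → ℤ) (pt j)) fun e he => by
          rw [signFlip_apply, if_pos ((hrow e he).2 hp), Pi.neg_apply], rowDot_neg]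
        exact Int.neg_ediv_of_dvd h2
      · rw [if_neg hp, rowDot_congr _ (g := fun j => (v : GolayPt → ℤ) (pt j)) fun e he => by
          rw [signFlip_apply, if_neg fun hc => hp ((hrow e he).1 hc)]]
  refine ⟨⟨g0, hmem⟩, fun i => ?_⟩
  obtain ⟨hlt, hr⟩ := hroot i.val i.isLt
  show (imgIdx ⟨g0, hmem⟩ i).val = _
  rw [imgIdx_unique (j := ⟨P.getD i.val 0, hlt⟩) ?_]
  rcases hr with hr | hr
  · refine Or.inl (Subtype.ext ?_)
    show ((g0 • rootV i : leechLattice) : GolayPt → ℤ) = _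
    rw [hsmul, coe_rootV, applyMat_toVec, hr, coe_rootV]
  · refine Or.inr (Subtype.ext ?_)
    show ((g0 • rootV i : leechLattice) : GolayPt → ℤ) = _
    rw [hsmul, coe_rootV, applyMat_toVec, hr, toVec_negL, AddSubgroup.coe_neg, coe_rootV]

theorem toSp_bits (g : centS) (i : Fin 63) :
    (toSp g).1 *ᵥ SpSix.bits (i.val + 1) = SpSix.bits ((rootPerm g i).val + 1) := by
  rw [toSp_mulVec, vecMap_bits]

theorem spT_zero_mem : spT (SpSix.bits (rootZero + 1)) (1 : ZMod 2) ∈ toSp.range := by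
  obtain ⟨g, hg⟩ := exists_gen genT_ok
  refine ⟨g, sp_ext fun v => ?_⟩
  rcases eq_zero_or_bits v with rfl | ⟨i, rfl⟩
  · simp
  · rw [toSp_bits, spT_apply, one_mul, hg i]
    funext k
    exact permT_spT i k

theorem spT_mem_range (i : Fin 63) : spT (SpSix.bits (i.val + 1)) (1 : ZMod 2) ∈ toSp.range := by
  obtain ⟨h0, hlen, -, hstep, hcov, hz⟩ := orb_ok
  suffices key : ∀ k < 63, orbPts.getD k 0 < 63 ∧
      spT (SpSix.bits (orbPts.getD k 0 + 1)) (1 : ZMod 2) ∈ toSp.range by
    obtain ⟨k, hk, e⟩ := List.getElem_of_mem (List.contains_iff_mem.1 (hcov i.val i.isLt))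
    have := (key k (hlen ▸ hk)).2
    rwa [List.getD_eq_getElem _ _ hk, e] at this
  intro k
  induction k using Nat.strong_induction_on with
  | _ k ih =>
    intro hk
    cases k with
    | zero => exact ⟨h0 ▸ hz, h0 ▸ spT_zero_mem⟩
    | succ m =>
      obtain ⟨hj, hgen, e⟩ := hstep m (by omega)
      obtain ⟨hlt, hmem⟩ := ih _ (Nat.lt_succ_of_le hj) (by omega)
      obtain ⟨g, hg⟩ : ∃ g : centS, ∀ i : Fin 63, (rootPerm g i).val =
          (permTab.getD (orbPar.getD m (0, 0)).1 []).getD i.val 0 := by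
        rcases Nat.lt_succ_iff_lt_or_eq.1 hgen with h | h
        · rw [Nat.lt_one_iff.1 h]; exact exists_gen gen0_ok
        · rw [h]; exact exists_gen gen1_ok
      have hnew : orbPts.getD (m + 1) 0 = (rootPerm g ⟨_, hlt⟩).val := e.trans (hg ⟨_, hlt⟩).symm
      refine ⟨hnew ▸ (rootPerm g _).isLt, ?_⟩
      rw [hnew, ← toSp_bits g ⟨_, hlt⟩, ← spT_conj]
      exact mul_mem (mul_mem ⟨g, rfl⟩ hmem) (inv_mem ⟨g, rfl⟩)

theorem toSp_surjective : Function.Surjective toSp := by
  rw [← MonoidHom.range_eq_top, eq_top_iff, ← spTGroup_univ, spTGroup, Subgroup.closure_le]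
  rintro A ⟨v, -, c, rfl⟩
  rcases eq_zero_or_bits v with rfl | ⟨i, rfl⟩
  · rw [show spT (0 : SpSix.I → ZMod 2) c = 1 from sp_ext fun x => by simp [spT_apply]]
    exact one_mem _
  · obtain rfl | rfl : c = 0 ∨ c = 1 := by revert c; decide
    · rw [spT_zero]; exact one_mem _
    · exact spT_mem_range i

end CfsgLib.Leech.CoTwo
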