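import Cfsg.Agent.Lib.Leech.CoTwo.Roots
import Cfsg.Agent.Lib.PGroup.Extraspecial
import Cfsg.Prelude.Def_Transfer

/-!
# The kernel of the action on the roots is extraspecial of order 512
-/

set_option autoImplicit false
set_option maxRecDepth 100000

namespace CfsgLib.Leech.CoTwo

open Cfsg CfsgLib.Golay CfsgLib.Leech Matrix CfsgLib.Schur.Tails

open scoped Pointwise symmDiff

/-- An automorphism sending the base vector into the standard cross fixes the cross. -/
theorem crossStab_of_baseVec {g : Co0} {p : GolayPt} {t : ℤ} (ht : t = 8 ∨ t = -8)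
    (h : ((g • baseVec : leechLattice) : GolayPt → ℤ) = Pi.single p t) : g ∈ crossStab := by
  have hm : g • baseVec ∈ leechEven.cls8 baseVec := stdSet_eq_cls8 ▸ mem_stdSet.2 ⟨p, t, ht, h⟩
  rw [crossStab, MulAction.mem_stabilizer_iff, stdSet_eq_cls8, smul_cls8, cls8_eq hm]

theorem single_inj {p q : GolayPt} {s t : ℤ} (hs : s ≠ 0)
    (h : (Pi.single p s : GolayPt → ℤ) = Pi.single q t) : p = q ∧ s = t := by
  have e := congrFun h p
  rw [Pi.single_eq_same] at e
  rcases eq_or_ne p q with rfl | hne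
  · exact ⟨rfl, by simpa using e⟩
  · rw [Pi.single_eq_of_ne hne] at e; exact absurd e hs

/-- A two-group with centre of order two containing all squares and commutators is extraspecial. -/
theorem extraspecial_of_center_pair {P : Type*} [Group P] [Finite P] (hp : IsPGroup 2 P) (z : P)
    (hz1 : z ≠ 1) (hcen : ∀ x : P, x ∈ Subgroup.center P ↔ x = 1 ∨ x = z)
    (hcomm : ∀ x y : P, x * y * x⁻¹ * y⁻¹ = 1 ∨ x * y * x⁻¹ * y⁻¹ = z)
    (hsq : ∀ x : P, x * x = 1 ∨ x * x = z) (hna : ∃ x y : P, x * y ≠ y * x) :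
    Cfsg.IsExtraspecial 2 P := by
  have : Fact (Nat.Prime 2) := ⟨Nat.prime_two⟩
  obtain ⟨a, b, hab⟩ := hna
  refine CfsgLib.PGroup.isExtraspecial_mk hp ?_ (fun h => hab (h.is_comm.comm a b))
    (fun x y => by rw [hcen, commutatorElement_def]; exact hcomm x y)
    (fun x => by rw [hcen, pow_two]; exact hsq x)
  rw [Nat.card_eq_two_iff]
  refine ⟨⟨1, one_mem _⟩, ⟨z, (hcen z).2 (Or.inr rfl)⟩,
    fun h => hz1 (congrArg Subtype.val h).symm, ?_⟩
  rw [Set.eq_univ_iff_forall]
  rintro ⟨x, hx⟩
  rcases (hcen x).1 hx with rfl | rfl <;> simp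

theorem monoAut_congr {σ σ' : Equiv.Perm GolayPt} {hσ : σ ∈ M24} {hσ' : σ' ∈ M24}
    {c c' : Finset GolayPt} {hc : CodeSet c} {hc' : CodeSet c'} (h1 : σ = σ') (h2 : c = c') :
    monoAut σ hσ c hc = monoAut σ' hσ' c' hc' := by
  subst h1; subst h2; rfl

theorem monoAut_mul {σ σ' : Equiv.Perm GolayPt} (hσ : σ ∈ M24) (hσ' : σ' ∈ M24)
    {c c' : Finset GolayPt} (hc : CodeSet c) (hc' : CodeSet c') :
    monoAut σ hσ c hc * monoAut σ' hσ' c' hc' =
      monoAut (σ * σ') (mul_mem hσ hσ') (c ∆ (σ • c'))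
        (codeSet_symmDiff hc (supports_smul hσ hc')) := by
  refine co_ext fun v => Subtype.ext (funext fun i => ?_)
  rw [mul_smul, coe_monoAut_smul, coe_monoAut_smul, coe_monoAut_smul]
  have hm : i ∈ σ • c' ↔ σ.symm i ∈ c' := by
    rw [← Finset.inv_smul_mem_iff, Equiv.Perm.smul_def, Equiv.Perm.inv_def]
  simp only [signedPerm, Finset.mem_symmDiff, hm]
  rw [show (σ * σ').symm i = σ'.symm (σ.symm i) from rfl]
  by_cases a : i ∈ c <;> by_cases b : σ.symm i ∈ c' <;> simp [a, b]

theorem monoAut_one : monoAut 1 (one_mem M24) ∅ codeSet_empty = 1 :=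
  co_ext fun v => Subtype.ext (funext fun i => by
    rw [coe_monoAut_smul, one_smul]; simp [signedPerm, Equiv.Perm.one_def])

theorem tAut_eq_mono : tAut = monoAut 1 (one_mem M24) (toSet outMask) outCode :=
  co_ext fun v => Subtype.ext (funext fun i => by
    rw [coe_monoAut_smul, tAut, coe_signAut_smul, signFlip_apply]
    simp [signedPerm, Equiv.Perm.one_def])

/-- The permutation of a translation. -/
noncomputable def trP (a : Fin 16) : Equiv.Perm GolayPt := permOf ptEquiv (tr a.val)

theorem trP_mem (a : Fin 16) : trP a ∈ M24 := mem_M24_of_test (transl_ok.2.1 _ a.isLt).1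

theorem trP_valid (a : Fin 16) : validL 24 (tr a.val) = true := (transl_ok.2.1 _ a.isLt).2.1

theorem trP_apply (a : Fin 16) (p : GolayPt) :
    (ptEquiv (trP a p)).val = (tr a.val).getD (ptEquiv p).val 0 :=
  permOf_apply ptEquiv (trP_valid a) p

theorem trP_fix (a : Fin 16) {p : GolayPt} (hp : p ∈ toSet octMask) : trP a p = p :=
  ptEquiv.injective (Fin.ext ((trP_apply a p).trans
    ((transl_ok.2.1 _ a.isLt).2.2 _ (mem_oct_iff.1 hp))))

theorem trP_zero : trP 0 = 1 :=
  Equiv.ext fun p => ptEquiv.injective (Fin.ext ((trP_apply 0 p).trans (tr_zero _ (ptEquiv p).isLt)))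

theorem trP_comm (a b : Fin 16) : trP a * trP b = trP b * trP a :=
  Equiv.ext fun p => ptEquiv.injective (Fin.ext (by
    rw [Equiv.Perm.mul_apply, Equiv.Perm.mul_apply, trP_apply, trP_apply, trP_apply, trP_apply]
    exact tr_comm _ a.isLt _ b.isLt _ (ptEquiv p).isLt))

theorem trP_sq (a : Fin 16) : trP a * trP a = 1 :=
  Equiv.ext fun p => ptEquiv.injective (Fin.ext (by
    rw [Equiv.Perm.mul_apply, trP_apply, trP_apply, Equiv.Perm.one_apply]
    exact tr_sq _ a.isLt _ (ptEquiv p).isLt))

theorem dc_code (b : Fin 32) : CodeSet (toSet (dc b.val)) :=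
  mem_supports.2 ⟨_, mem_golayList_of_inCode (disj_ok.2.2.1 _ b.isLt).1, rfl⟩

theorem dc_supp (b : Fin 32) {p : GolayPt} (hp : p ∈ toSet octMask) : p ∉ toSet (dc b.val) := by
  intro h
  have e := congrArg (fun n => n.testBit (ptEquiv p).val) (disj_ok.2.2.1 _ b.isLt).2.1
  simp only [Nat.testBit_land, Nat.zero_testBit] at e
  rw [mem_toSet.1 h, mem_toSet.1 hp] at e
  exact Bool.noConfusion e

/-- The elements of the kernel. -/
noncomputable def kEl (a : Fin 16) (b : Fin 32) : Co0 :=
  monoAut (trP a) (trP_mem a) (toSet (dc b.val)) (dc_code b)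

theorem kEl_smul {v : leechLattice} (hv : ∀ p, p ∉ toSet octMask → (v : GolayPt → ℤ) p = 0)
    (a : Fin 16) (b : Fin 32) : kEl a b • v = v := by
  refine Subtype.ext (funext fun i => ?_)
  rw [kEl, coe_monoAut_smul, signedPerm]
  by_cases h : i ∈ toSet octMask
  · rw [if_neg (dc_supp b h), (trP a).symm_apply_eq.2 (trP_fix a h).symm]
  · have h' : (trP a).symm i ∉ toSet octMask := fun h' => h (by
      have := trP_fix a h'
      rw [Equiv.apply_symm_apply] at this
      exact this ▸ h')
    rw [hv _ h, hv _ h']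
    simp

theorem leechU_supp : ∀ p, p ∉ toSet octMask →
    ((Spor.leechU : leechLattice) : GolayPt → ℤ) p = 0 := by
  show ∀ p, p ∉ toSet octMask → Spor.vecU p = 0
  decide +kernel

theorem smul_out (a : Fin 16) : trP a • toSet outMask = toSet outMask := by
  ext p
  rw [← Finset.inv_smul_mem_iff, Equiv.Perm.smul_def, Equiv.Perm.inv_def, mem_out, mem_out]
  refine not_congr ⟨fun h => ?_, fun h => ?_⟩
  · have := trP_fix a h
    rw [Equiv.apply_symm_apply] at this
    exact this ▸ h
  · rwa [(trP a).symm_apply_eq.2 (trP_fix a h).symm]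

theorem kEl_mem (a : Fin 16) (b : Fin 32) : kEl a b ∈ centS := by
  refine ⟨kEl_smul leechU_supp a b, Subgroup.mem_centralizer_singleton_iff.2 ?_⟩
  rw [kEl, tAut_eq_mono, monoAut_mul, monoAut_mul]
  refine monoAut_congr ?_ ?_
  · simp
  · rw [smul_out, one_smul, symmDiff_comm]

/-- A kernel element in the centraliser. -/
noncomputable def kC (a : Fin 16) (b : Fin 32) : centS := ⟨kEl a b, kEl_mem a b⟩

theorem kC_mem_ker (a : Fin 16) (b : Fin 32) : kC a b ∈ toSp.ker := by
  rw [MonoidHom.mem_ker, toSp_eq_one_iff]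
  exact fun i => imgIdx_unique (Or.inl (kEl_smul (rootV_supp i) a b))

/-- The sign is the same on all roots. -/
theorem ker_sign {g : centS} (hg : g ∈ toSp.ker) :
    (∀ i, (g : Co0) • rootV i = rootV i) ∨ ∀ i, (g : Co0) • rootV i = -rootV i := by
  rw [MonoidHom.mem_ker, toSp_eq_one_iff] at hg
  have hsig : ∀ i, (g : Co0) • rootV i = rootV i ∨ (g : Co0) • rootV i = -rootV i := fun i => by
    have h : imgIdx g i = i := hg i
    simpa [h] using imgIdx_spec g i
  have key : ∀ i k : Fin 63, dotL (rootL i.val) (rootL k.val) ≠ 0 →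
      ((g : Co0) • rootV i = rootV i ↔ (g : Co0) • rootV k = rootV k) := by
    intro i k hne
    have hd : dotInt (rootV i : GolayPt → ℤ) (rootV k : GolayPt → ℤ) ≠ 0 := by
      rw [coe_rootV, coe_rootV, dotInt_toVec]; exact hne
    have h := dot_smul_co (g : Co0) (rootV i) (rootV k)
    constructor
    · intro e
      refine (hsig k).resolve_right fun e' => hd ?_
      rw [e, e'] at h
      simp only [AddSubgroup.coe_neg, dotInt, Pi.neg_apply, mul_neg, Finset.sum_neg_distrib] at h ⊢
      linarith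
    · intro e
      refine (hsig i).resolve_right fun e' => hd ?_
      rw [e, e'] at h
      simp only [AddSubgroup.coe_neg, dotInt, Pi.neg_apply, neg_mul, Finset.sum_neg_distrib] at h ⊢
      linarith
  have hconn := root_conn
  simp only [List.all_eq_true, List.any_eq_true, List.mem_range, Bool.and_eq_true,
    Bool.not_eq_true', beq_eq_false_iff_ne] at hconn
  have hall : ∀ i : Fin 63, (g : Co0) • rootV i = rootV i ↔ (g : Co0) • rootV 0 = rootV 0 := by
    intro i
    obtain ⟨k, hk, h1, h2⟩ := hconn i.val i.isLt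
    exact (key i ⟨k, hk⟩ h1).trans (key ⟨k, hk⟩ 0 h2)
  by_cases h : (g : Co0) • rootV 0 = rootV 0
  · exact Or.inl fun i => (hall i).2 h
  · exact Or.inr fun i => (hsig i).resolve_left fun e => h ((hall i).1 e)

/-- A multiple of an axis vector. -/
def axisPt (q : ℕ) : leechLattice := axisVec (pt q) 8 dvd_rfl

theorem toVec_axis {q : ℕ} (hq : q < 24) :
    toVec ((List.range 24).map fun i => if i = q then (8 : ℤ) else 0) = Pi.single (pt q) 8 := by
  funext p
  rw [toVec_range]
  by_cases h : p = pt q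
  · subst h; rw [ptEquiv_pt hq, if_pos rfl, Pi.single_eq_same]
  · rw [Pi.single_eq_of_ne h, if_neg fun e => h (by rw [← e, pt_ptEquiv])]

theorem toVec_zipWith {a b : List ℤ} (f : ℤ → ℤ → ℤ) (ha : a.length = 24) (hb : b.length = 24)
    (p : GolayPt) : toVec (List.zipWith f a b) p = f (toVec a p) (toVec b p) := by
  have h : (ptEquiv p).val < 24 := (ptEquiv p).isLt
  simp only [toVec]
  rw [List.getD_eq_getElem _ _ (by rw [List.length_zipWith, ha, hb]; omega),
    List.getD_eq_getElem _ _ (by omega), List.getD_eq_getElem _ _ (by omega), List.getElem_zipWith]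

theorem oct_split : ∀ k < 8, (k < 2 → octPts.getD k 0 = 23 ∨ octPts.getD k 0 = 0) ∧
    (¬ k < 2 → octPts.getD k 0 ≠ 23 ∧ octPts.getD k 0 ≠ 0) := by
  decide +kernel

theorem axis_expr {q : ℕ} (hq : q ∈ octPts) :
    ((q = 23 ∨ q = 0) ∧ ∃ a, axisPt q = Spor.leechU + rootV a ∨ axisPt q = Spor.leechU - rootV a) ∨
    (q ≠ 23 ∧ q ≠ 0 ∧ ∃ a b, axisPt q = rootV a + rootV b ∨ axisPt q = rootV a - rootV b ∨
      axisPt q = -rootV a + -rootV b) := by
  obtain ⟨k, hk, rfl⟩ := List.getElem_of_mem hq
  have hk8 : k < 8 := octMask_ok.2.2.1 ▸ hk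
  have h := axisOk_ok
  simp only [axisOk, List.all_eq_true, List.mem_range] at h
  have h' := h k hk8
  rw [List.getD_eq_getElem _ _ hk] at h'
  set q := octPts[k] with hqdef
  have hq24 : q < 24 := octMask_ok.2.2.2.2.2.1 _ hq
  have conv : ∀ (x : leechLattice) (l : List ℤ),
      l = ((List.range 24).map fun i => if i = q then (8 : ℤ) else 0) →
      (x : GolayPt → ℤ) = toVec l → axisPt q = x := by
    intro x l h1 h2
    exact Subtype.ext (by rw [axisPt, coe_axisVec, h2, h1, toVec_axis hq24])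
  have hU : ((Spor.leechU : leechLattice) : GolayPt → ℤ) = toVec uList :=
    funext fun p => (uList_eq p).symm
  have hlu : uList.length = 24 := by simp [uList, full24]
  have hln : ∀ a, (negL (rootL a)).length = 24 := fun a => by simp [negL, rootL_length]
  split at h' <;> rename_i hk2 <;>
    simp only [List.any_eq_true, List.mem_range, Bool.or_eq_true, beq_iff_eq] at h'
  · obtain ⟨a, ha, h'⟩ := h'
    refine Or.inl ⟨?_, ⟨a, ha⟩, ?_⟩
    · rw [← List.getD_eq_getElem _ 0 hk]
      exact (oct_split k hk8).1 hk2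
    · rcases h' with h' | h'
      · refine Or.inl (conv _ _ h' ?_)
        funext p
        rw [toVec_zipWith _ hlu (rootL_length a), AddSubgroup.coe_add, Pi.add_apply, coe_rootV, hU]
      · refine Or.inr (conv _ _ h' ?_)
        funext p
        rw [toVec_zipWith _ hlu (rootL_length a), AddSubgroup.coe_sub, Pi.sub_apply, coe_rootV, hU]
  · obtain ⟨a, ha, b, hb, h'⟩ := h'
    refine Or.inr ⟨?_, ?_, ⟨a, ha⟩, ⟨b, hb⟩, ?_⟩
    · rw [← List.getD_eq_getElem _ 0 hk]
      exact ((oct_split k hk8).2 hk2).1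
    · rw [← List.getD_eq_getElem _ 0 hk]
      exact ((oct_split k hk8).2 hk2).2
    rcases h' with (h' | h') | h'
    · refine Or.inl (conv _ _ h' ?_)
      funext p
      rw [toVec_zipWith _ (rootL_length a) (rootL_length b), AddSubgroup.coe_add, Pi.add_apply,
        coe_rootV, coe_rootV]
    · refine Or.inr (Or.inl (conv _ _ h' ?_))
      funext p
      rw [toVec_zipWith _ (rootL_length a) (rootL_length b), AddSubgroup.coe_sub, Pi.sub_apply,
        coe_rootV, coe_rootV]
    · refine Or.inr (Or.inr (conv _ _ h' ?_))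
      funext p
      rw [toVec_zipWith _ (hln a) (hln b), toVec_negL, toVec_negL, AddSubgroup.coe_add, Pi.add_apply,
        AddSubgroup.coe_neg, AddSubgroup.coe_neg, coe_rootV, coe_rootV]

theorem leechU_two : axisPt 23 + axisPt 0 = Spor.leechU + Spor.leechU := by
  refine Subtype.ext (funext fun p => ?_)
  show (Pi.single (pt 23) (8 : ℤ) : GolayPt → ℤ) p + (Pi.single (pt 0) (8 : ℤ) : GolayPt → ℤ) p =
    Spor.vecU p + Spor.vecU p
  revert p
  decide +kernel

theorem pt23 : pt 23 = none := by decide +kernel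

theorem axisPt_23 : axisPt 23 = baseVec :=
  Subtype.ext (by rw [axisPt, coe_axisVec, baseVec, coe_axisVec, pt23])

theorem mono_axis {σ : Equiv.Perm GolayPt} {hσ : σ ∈ M24} {c : Finset GolayPt} {hc : CodeSet c}
    {p r : GolayPt} {s : ℤ}
    (h : ((monoAut σ hσ c hc • axisVec p 8 dvd_rfl : leechLattice) : GolayPt → ℤ) = Pi.single r s) :
    σ p = r ∧ (if σ p ∈ c then -8 else 8) = s := by
  rw [coe_monoAut_smul, coe_axisVec, signedPerm_single] at h
  exact single_inj (by split <;> norm_num) h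

/-- A permutation in the group fixing six points of the octad and the octad is a translation. -/
theorem exists_trP {σ : Equiv.Perm GolayPt} (hσ : σ ∈ M24)
    (hsix : ∀ q ∈ [2, 4, 5, 6, 10, 11], σ (pt q) = pt q)
    (h0 : ∀ q ∈ octPts, ∃ r ∈ octPts, σ (pt r) = pt q) : ∃ a, σ = trP a := by
  have hout : ptEquiv (σ (pt outPt)) = ptEquiv (σ (pt outPt)) := rfl
  have hno : octMask.testBit (ptEquiv (σ (pt outPt))).val = false := by
    rw [Bool.eq_false_iff, ne_eq, ← mem_toSet]
    intro h
    rw [mem_oct_iff] at h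
    obtain ⟨r, hr, e⟩ := h0 _ h
    rw [pt_ptEquiv] at e
    have e' := congrArg (fun p => (ptEquiv p).val) (σ.injective e)
    simp only [ptEquiv_pt (octMask_ok.2.2.2.2.2.1 r hr),
      ptEquiv_pt octMask_ok.2.2.2.2.2.2.2.2.2] at e'
    subst e'
    exact absurd hr (by rw [der_ok.2]; decide)
  obtain ⟨a, ha, e⟩ := transl_ok.2.2.1 _ (ptEquiv (σ (pt outPt))).isLt hno
  refine ⟨⟨a, ha⟩, ?_⟩
  suffices h : (trP ⟨a, ha⟩)⁻¹ * σ = 1 from (inv_mul_eq_one.1 h).symm
  refine eq_one_of_fixCheck (mul_mem (inv_mem (trP_mem _)) hσ) der_ok.1 fun p hp => ?_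
  rw [Equiv.Perm.mul_apply, Equiv.Perm.inv_def, Equiv.symm_apply_eq]
  simp only [List.mem_cons, List.not_mem_nil, or_false] at hp
  have hp' : (ptEquiv p).val ∈ [2, 4, 5, 6, 10, 11] ∨ (ptEquiv p).val = outPt := by
    simp only [List.mem_cons, List.not_mem_nil, or_false]
    tauto
  rcases hp' with hp | hp
  · have hmem : p ∈ toSet octMask := mem_oct_iff.2 (by
      rw [der_ok.2]; exact List.mem_cons_of_mem _ (List.mem_cons_of_mem _ hp))
    rw [trP_fix _ hmem]
    have := hsix _ hp
    rwa [pt_ptEquiv] at this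
  · have hpe : p = pt outPt := by rw [← hp, pt_ptEquiv]
    subst hpe
    exact ptEquiv.injective (Fin.ext (by
      rw [trP_apply, ptEquiv_pt octMask_ok.2.2.2.2.2.2.2.2.2]; exact e.symm))

theorem six_facts : ∀ q ∈ [2, 4, 5, 6, 10, 11], q ∈ octPts ∧ q ≠ 23 ∧ q ≠ 0 := by decide +kernel

/-- The kernel consists of the listed elements. -/
theorem exists_kEl {g : centS} (hg : g ∈ toSp.ker) : ∃ a b, g = kC a b := by
  have hu : (g : Co0) • Spor.leechU = Spor.leechU := MulAction.mem_stabilizer_iff.1 g.2.1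
  rcases ker_sign hg with hs | hs
  · have hfix : ∀ q ∈ octPts, (g : Co0) • axisPt q = axisPt q := by
      intro q hq
      rcases axis_expr hq with ⟨-, a, e | e⟩ | ⟨-, -, a, b, e | e | e⟩ <;>
        rw [e] <;> simp only [smul_add', smul_sub', smul_neg', hu, hs]
    have hq23 : 23 ∈ octPts := by decide +kernel
    have hb : ((( g : Co0) • baseVec : leechLattice) : GolayPt → ℤ) = Pi.single none 8 := by
      rw [← axisPt_23, hfix _ hq23, axisPt_23, baseVec, coe_axisVec]
    obtain ⟨σ, hσ, c, hc, e⟩ := exists_monoAut_of_mem (crossStab_of_baseVec (Or.inl rfl) hb)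
    have hpt : ∀ q ∈ octPts, σ (pt q) = pt q ∧ pt q ∉ c := by
      intro q hq
      have h := congrArg (fun v : leechLattice => (v : GolayPt → ℤ)) (hfix q hq)
      rw [e, axisPt] at h
      obtain ⟨h1, h2⟩ := mono_axis (h.trans (coe_axisVec _ _ _))
      rw [h1] at h2
      exact ⟨h1, fun hc => by rw [if_pos hc] at h2; norm_num at h2⟩
    obtain ⟨a, rfl⟩ := exists_trP hσ (fun q hq => (hpt q (six_facts q hq).1).1)
      fun q hq => ⟨q, hq, (hpt q hq).1⟩
    obtain ⟨n, hn, rfl⟩ := mem_supports.1 hc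
    have hd : n &&& octMask = 0 := Nat.eq_of_testBit_eq fun i => by
      rw [Nat.testBit_land, Nat.zero_testBit]
      rcases Nat.lt_or_ge i 24 with hi | hi
      · by_cases ho : octMask.testBit i = true
        · have hio : i ∈ octPts := by
            rwa [octMask_ok.2.2.2.2.1 i hi, List.contains_iff_mem] at ho
          have h := (hpt i hio).2
          rw [pt_mem_toSet hi, Bool.not_eq_true] at h
          simp [h]
        · simp [ho]
      · rw [Nat.testBit_lt_two_pow (lt_of_lt_of_le (golayList_lt n hn)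
          (Nat.pow_le_pow_right (by norm_num) hi))]
        rfl
    have hcon := List.all_eq_true.1 disj_ok.2.2.2 n hn
    simp only [hd, beq_self_eq_true, Bool.not_true, Bool.false_or, List.contains_iff_mem] at hcon
    obtain ⟨b, hb', eb⟩ := List.getElem_of_mem hcon
    refine ⟨a, ⟨b, disj_ok.1 ▸ hb'⟩, Subtype.ext ?_⟩
    rw [e]
    exact monoAut_congr rfl (by rw [dc, List.getD_eq_getElem _ _ hb', eb])
  · exfalso
    have hneg : ∀ q ∈ octPts, q ≠ 23 → q ≠ 0 → (g : Co0) • axisPt q = -axisPt q := by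
      intro q hq h1 h2
      rcases axis_expr hq with ⟨h, -⟩ | ⟨-, -, a, b, e | e | e⟩
      · rcases h with h | h <;> contradiction
      all_goals rw [e]; simp only [smul_add', smul_sub', smul_neg', hs]; abel
    have hpair : (g : Co0) • axisPt 23 = axisPt 0 := by
      have h23 : 23 ∈ octPts := by decide +kernel
      have h0 : axisPt 0 = Spor.leechU + Spor.leechU - axisPt 23 := by rw [← leechU_two]; abel
      rcases axis_expr h23 with ⟨-, a, e | e⟩ | ⟨h, -⟩
      · rw [h0, e]; simp only [smul_add', hu, hs]; abel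
      · rw [h0, e]; simp only [smul_sub', hu, hs]; abel
      · exact absurd rfl h
    have hb : (((g : Co0) • baseVec : leechLattice) : GolayPt → ℤ) = Pi.single (pt 0) 8 := by
      rw [← axisPt_23, hpair, axisPt, coe_axisVec]
    obtain ⟨σ, hσ, c, hc, e⟩ := exists_monoAut_of_mem (crossStab_of_baseVec (Or.inl rfl) hb)
    have hsix : ∀ q ∈ [2, 4, 5, 6, 10, 11], σ (pt q) = pt q := by
      intro q hq
      obtain ⟨h1, h2, h3⟩ := six_facts q hq
      have h := congrArg (fun v : leechLattice => (v : GolayPt → ℤ)) (hneg q h1 h2 h3)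
      rw [e, axisPt] at h
      refine (mono_axis (r := pt q) (s := -8) (h.trans ?_)).1
      simp only [AddSubgroup.coe_neg, coe_axisVec, Pi.single_neg]
    have h23 : σ (pt 23) = pt 0 := by
      rw [pt23]
      rw [e, baseVec] at hb
      exact (mono_axis hb).1
    have h0 : σ (pt 0) = pt 23 := by
      have hg0 : (g : Co0) • axisPt 0 = axisPt 23 := by
        have h : axisPt 0 = Spor.leechU + Spor.leechU - axisPt 23 := by rw [← leechU_two]; abel
        conv_lhs => rw [h]
        rw [smul_sub', smul_add', hu, hpair, ← leechU_two]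
        abel
      have h := congrArg (fun v : leechLattice => (v : GolayPt → ℤ)) hg0
      rw [e, axisPt] at h
      exact (mono_axis (h.trans (coe_axisVec _ _ _))).1
    obtain ⟨a, rfl⟩ := exists_trP hσ hsix fun q hq => by
      rw [der_ok.2] at hq
      rcases List.mem_cons.1 hq with rfl | hq
      · exact ⟨0, by decide +kernel, h0⟩
      rcases List.mem_cons.1 hq with rfl | hq
      · exact ⟨23, by decide +kernel, h23⟩
      exact ⟨q, (six_facts q hq).1, hsix q hq⟩
    rw [trP_fix a (mem_oct_iff.2 (by rw [ptEquiv_pt (by norm_num)]; decide +kernel))] at h23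
    exact absurd h23 (by decide +kernel)

theorem kC_injective : Function.Injective fun x : Fin 16 × Fin 32 => kC x.1 x.2 := by
  intro x y h
  obtain ⟨h1, h2⟩ := monoAut_injective (congrArg Subtype.val h)
  have ha : x.1 = y.1 := by
    refine Fin.ext (transl_ok.2.2.2 _ x.1.isLt _ y.1.isLt ?_)
    have := congrArg (fun σ : Equiv.Perm GolayPt => (ptEquiv (σ (pt outPt))).val) h1
    simpa only [trP_apply, ptEquiv_pt octMask_ok.2.2.2.2.2.2.2.2.2] using this
  have hb : dc x.2.val = dc y.2.val :=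
    toSet_inj (disj_ok.2.2.1 _ x.2.isLt).2.2 (disj_ok.2.2.1 _ y.2.isLt).2.2 h2
  rw [dc, dc, List.getD_eq_getElem _ _ (disj_ok.1.symm ▸ x.2.isLt),
    List.getD_eq_getElem _ _ (disj_ok.1.symm ▸ y.2.isLt)] at hb
  exact Prod.ext ha (Fin.ext (disj_ok.2.1.getElem_inj_iff.1 hb))

theorem card_ker : Nat.card toSp.ker = 512 := by
  have h : Function.Bijective fun x : Fin 16 × Fin 32 => (⟨kC x.1 x.2, kC_mem_ker _ _⟩ : toSp.ker) :=
    ⟨fun x y e => kC_injective (congrArg Subtype.val e), fun g => by
      obtain ⟨a, b, e⟩ := exists_kEl g.2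
      exact ⟨(a, b), Subtype.ext e.symm⟩⟩
  rw [← Nat.card_eq_of_bijective _ h]
  simp

theorem exists_dc_zero : ∃ b : Fin 32, dc b.val = 0 := by decide +kernel

theorem exists_dc_out : ∃ b : Fin 32, dc b.val = outMask := by decide +kernel

theorem kEl_mul (a a' : Fin 16) (b b' : Fin 32) :
    ∃ h : CodeSet (toSet (dc b.val ^^^ imgMask (tr a.val) (dc b'.val))),
      kEl a b * kEl a' b' = monoAut (trP a * trP a') (mul_mem (trP_mem a) (trP_mem a'))
        (toSet (dc b.val ^^^ imgMask (tr a.val) (dc b'.val))) h := by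
  have e : toSet (dc b.val ^^^ imgMask (tr a.val) (dc b'.val)) =
      toSet (dc b.val) ∆ (trP a • toSet (dc b'.val)) := by
    rw [toSet_xor, trP, smul_toSet (trP_valid a)]
  refine ⟨e ▸ codeSet_symmDiff (dc_code b) (supports_smul (trP_mem a) (dc_code b')), ?_⟩
  rw [kEl, kEl, monoAut_mul]
  exact monoAut_congr rfl e.symm

theorem tAut_mem : tAut ∈ centS := by
  refine ⟨(tAut_smul_eq_self _).2 leechU_supp, Subgroup.mem_centralizer_singleton_iff.2 rfl⟩

theorem tAut_eq_kEl : ∃ b : Fin 32, dc b.val = outMask ∧ tAut = kEl 0 b := by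
  obtain ⟨b, hb⟩ := exists_dc_out
  exact ⟨b, hb, by rw [tAut_eq_mono, kEl]; exact monoAut_congr trP_zero.symm (by rw [hb])⟩

theorem tAut_mul_self : tAut * tAut = 1 := by
  rw [tAut_eq_mono, monoAut_mul, ← monoAut_one]
  refine monoAut_congr (mul_one 1) ?_
  simp

theorem kEl_commutes (a a' : Fin 16) (b b' : Fin 32) :
    kEl a b * kEl a' b' = kEl a' b' * kEl a b ∨
      kEl a b * kEl a' b' = tAut * (kEl a' b' * kEl a b) := by
  obtain ⟨h1, e1⟩ := kEl_mul a a' b b'
  obtain ⟨h2, e2⟩ := kEl_mul a' a b' b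
  have hx : dc b.val ^^^ imgMask (tr a.val) (dc b'.val) =
      ((imgMask (tr a.val) (dc b'.val) ^^^ dc b'.val) ^^^ (imgMask (tr a'.val) (dc b.val) ^^^ dc b.val))
        ^^^ (dc b'.val ^^^ imgMask (tr a'.val) (dc b.val)) := by
    apply Nat.eq_of_testBit_eq
    intro i
    simp only [Nat.testBit_xor]
    cases (dc b.val).testBit i <;> cases (dc b'.val).testBit i <;>
      cases (imgMask (tr a.val) (dc b'.val)).testBit i <;>
      cases (imgMask (tr a'.val) (dc b.val)).testBit i <;> rfl
  rcases dc_move _ a.isLt _ b'.isLt with u | u <;> rcases dc_move _ a'.isLt _ b.isLt with v | v <;>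
    rw [u, v] at hx <;> simp only [Nat.xor_self, Nat.zero_xor, Nat.xor_zero] at hx
  all_goals first
    | exact Or.inl (by rw [e1, e2]; exact monoAut_congr (trP_comm a a') (congrArg toSet hx))
    | refine Or.inr ?_
      rw [e1, e2, tAut_eq_mono, monoAut_mul]
      exact monoAut_congr (by rw [one_mul, trP_comm]) (by rw [one_smul, hx, toSet_xor])

theorem kEl_sq (a : Fin 16) (b : Fin 32) :
    kEl a b * kEl a b = 1 ∨ kEl a b * kEl a b = tAut := by
  obtain ⟨h, e⟩ := kEl_mul a a b b
  rcases dc_move _ a.isLt _ b.isLt with u | u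
  · refine Or.inl ?_
    rw [e, ← monoAut_one]
    refine monoAut_congr (trP_sq a) ?_
    rw [Nat.xor_comm, u]
    ext p; simp [mem_toSet]
  · refine Or.inr ?_
    rw [e, tAut_eq_mono]
    exact monoAut_congr (trP_sq a) (by rw [Nat.xor_comm, u])

theorem imgMask_lt {L : List ℕ} (hL : validL 24 L = true) (n : ℕ) : imgMask L n < 2 ^ 24 := by
  refine Nat.lt_pow_two_of_testBit _ fun i hi => ?_
  rw [Bool.eq_false_iff, ne_eq, testBit_imgMask]
  rintro ⟨j, hj, -, e⟩
  have := validL_getD_lt hL hj
  omega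

/-- An element with a sign set and one with a permutation moving it do not commute. -/
theorem not_comm {a : Fin 16} {b b0 : Fin 32} (h0 : dc b0.val = 0) {a' : Fin 16}
    (hm : imgMask (tr a'.val) (dc b.val) ≠ dc b.val) :
    kEl a b * kEl a' b0 ≠ kEl a' b0 * kEl a b := by
  intro e
  obtain ⟨h1, e1⟩ := kEl_mul a a' b b0
  obtain ⟨h2, e2⟩ := kEl_mul a' a b0 b
  rw [e1, e2] at e
  have h := (monoAut_injective e).2
  have hz : imgMask (tr a.val) 0 = 0 := Nat.eq_of_testBit_eq fun i => by
    rw [Nat.zero_testBit, Bool.eq_false_iff, ne_eq, testBit_imgMask]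
    simp
  rw [h0, hz, Nat.xor_zero, Nat.zero_xor] at h
  exact hm (toSet_inj (imgMask_lt (trP_valid a') _) (disj_ok.2.2.1 _ b.isLt).2.2 h.symm)

/-- The sign change in the kernel. -/
noncomputable def tK : toSp.ker :=
  ⟨⟨tAut, tAut_mem⟩, by
    obtain ⟨b, -, e⟩ := tAut_eq_kEl
    have : (⟨tAut, tAut_mem⟩ : centS) = kC 0 b := Subtype.ext e
    exact this ▸ kC_mem_ker 0 b⟩

theorem tAut_ne_one : tAut ≠ 1 := by
  intro h
  rw [tAut_eq_mono, ← monoAut_one] at h
  have h2 := (monoAut_injective h).2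
  have : pt outPt ∈ toSet outMask := by decide +kernel
  rw [h2] at this
  exact Finset.notMem_empty _ this

theorem ker_mul_val (x y : toSp.ker) :
    (((x * y : toSp.ker) : centS) : Co0) = ((x : centS) : Co0) * ((y : centS) : Co0) := rfl

theorem imgMask_tr_zero : ∀ b : Fin 32, imgMask (tr (0 : Fin 16).val) (dc b.val) = dc b.val := by
  decide +kernel

theorem exists_moved_one :
    ∃ b : Fin 32, imgMask (tr (1 : Fin 16).val) (dc b.val) ≠ dc b.val := by
  decide +kernel

theorem mem_center_iff_kEl (x : toSp.ker) :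
    x ∈ Subgroup.center toSp.ker ↔ x = 1 ∨ x = tK := by
  constructor
  · intro hx
    obtain ⟨a, b, e⟩ := exists_kEl x.2
    have hval : ((x : centS) : Co0) = kEl a b := congrArg Subtype.val e
    have hcomm : ∀ a' b', kEl a b * kEl a' b' = kEl a' b' * kEl a b := fun a' b' => by
      have h := congrArg (fun z : toSp.ker => ((z : centS) : Co0))
        (Subgroup.mem_center_iff.1 hx ⟨kC a' b', kC_mem_ker a' b'⟩)
      simp only [ker_mul_val, hval] at h
      exact h.symm
    obtain ⟨b0, h0⟩ := exists_dc_zero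
    have ha : a = 0 := by
      rcases tr_moves _ a.isLt with h | ⟨b', hb', h⟩
      · exact Fin.ext h
      · refine absurd (hcomm 0 ⟨b', hb'⟩) fun hc => ?_
        obtain ⟨_, e1⟩ := kEl_mul a 0 b ⟨b', hb'⟩
        obtain ⟨_, e2⟩ := kEl_mul 0 a ⟨b', hb'⟩ b
        rw [e1, e2] at hc
        have hs := (monoAut_injective hc).2
        rw [imgMask_tr_zero, toSet_xor, toSet_xor, symmDiff_comm (toSet (dc b'))] at hs
        exact h (toSet_inj (imgMask_lt (trP_valid a) _) (disj_ok.2.2.1 _ hb').2.2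
          (symmDiff_right_injective _ hs))
    subst ha
    rcases dc_fixed _ b.isLt with h | h | ⟨a', ha', h⟩
    · refine Or.inl (Subtype.ext (Subtype.ext ?_))
      rw [hval, kEl, OneMemClass.coe_one, OneMemClass.coe_one, ← monoAut_one]
      exact monoAut_congr trP_zero (by rw [h]; ext p; simp [mem_toSet])
    · refine Or.inr (Subtype.ext (Subtype.ext ?_))
      show ((x : centS) : Co0) = tAut
      rw [hval, tAut_eq_mono]
      exact monoAut_congr trP_zero (by rw [h])
    · exact absurd (hcomm ⟨a', ha'⟩ b0) (not_comm h0 h)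
  · rintro (rfl | rfl)
    · exact one_mem _
    · rw [Subgroup.mem_center_iff]
      intro y
      exact Subtype.ext (Subtype.ext (Subgroup.mem_centralizer_singleton_iff.1 y.1.2.2))

theorem ker_extraspecial : Cfsg.IsExtraspecial 2 toSp.ker := by
  have : Finite toSp.ker := Nat.finite_of_card_ne_zero (by rw [card_ker]; norm_num)
  have hp : IsPGroup 2 toSp.ker := IsPGroup.of_card (n := 9) (by rw [card_ker]; norm_num)
  have hz1 : tK ≠ 1 := fun h => tAut_ne_one (congrArg (fun z : toSp.ker => ((z : centS) : Co0)) h)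
  refine extraspecial_of_center_pair hp tK hz1 mem_center_iff_kEl (fun x y => ?_) (fun x => ?_) ?_
  · obtain ⟨a, b, e⟩ := exists_kEl x.2
    obtain ⟨a', b', e'⟩ := exists_kEl y.2
    have hx : ((x : centS) : Co0) = kEl a b := congrArg Subtype.val e
    have hy : ((y : centS) : Co0) = kEl a' b' := congrArg Subtype.val e'
    rcases kEl_commutes a a' b b' with h | h
    · refine Or.inl ?_
      have : x * y = y * x := Subtype.ext (Subtype.ext (by rw [ker_mul_val, ker_mul_val, hx, hy, h]))
      rw [this]; group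
    · refine Or.inr ?_
      have : x * y = tK * (y * x) := Subtype.ext (Subtype.ext (by
        rw [ker_mul_val, ker_mul_val, ker_mul_val, hx, hy, h]; rfl))
      rw [this]; group
  · obtain ⟨a, b, e⟩ := exists_kEl x.2
    have hx : ((x : centS) : Co0) = kEl a b := congrArg Subtype.val e
    rcases kEl_sq a b with h | h
    · exact Or.inl (Subtype.ext (Subtype.ext (by rw [ker_mul_val, hx, h]; rfl)))
    · exact Or.inr (Subtype.ext (Subtype.ext (by rw [ker_mul_val, hx, h]; rfl)))
  · obtain ⟨b0, h0⟩ := exists_dc_zero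
    obtain ⟨b, h⟩ := exists_moved_one
    refine ⟨⟨kC 0 b, kC_mem_ker _ _⟩, ⟨kC 1 b0, kC_mem_ker _ _⟩, fun e => ?_⟩
    refine not_comm (a := 0) (b := b) h0 h ?_
    have h2 := congrArg (fun z : toSp.ker => ((z : centS) : Co0)) e
    simp only [ker_mul_val] at h2
    exact h2

end CfsgLib.Leech.CoTwo
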