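import Cfsg.Agent.Lib.Leech.CoTwo.Kernel
import Cfsg.Agent.Lib.Leech.CoTwo.Image
import Cfsg.Agent.Lib.Cores.Basic
import Cfsg.Agent.Lib.LargeExtra.SubExtra
import Cfsg.Prelude.Def_Solvable

/-!
# The involution centraliser of the stabiliser of a short vector
-/

set_option autoImplicit false
set_option maxRecDepth 100000

namespace CfsgLib.Leech.CoTwo

open Cfsg CfsgLib.Golay CfsgLib.Leech CfsgLib.Schur.Tails

/-- The sign change in the stabiliser. -/
def tCo2 : Spor.Co2 := ⟨tAut.1, tAut.2, tAut_mem.1⟩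

theorem orderOf_tCo2 : orderOf tCo2 = 2 := by
  rw [orderOf_eq_prime_iff]
  refine ⟨?_, fun h => tAut_ne_one (Subtype.ext (congrArg Subtype.val h :))⟩
  rw [pow_two]
  exact Subtype.ext (congrArg Subtype.val tAut_mul_self :)

/-- The centraliser is the group acting on the roots. -/
def centEquiv : Subgroup.centralizer ({tCo2} : Set Spor.Co2) ≃* centS where
  toFun g := ⟨⟨g.1.1, g.1.2.1⟩, g.1.2.2, Subgroup.mem_centralizer_singleton_iff.2
    (Subtype.ext (congrArg Subtype.val (Subgroup.mem_centralizer_singleton_iff.1 g.2) :))⟩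
  invFun g := ⟨⟨g.1.1, g.1.2, g.2.1⟩, Subgroup.mem_centralizer_singleton_iff.2
    (Subtype.ext (congrArg Subtype.val (Subgroup.mem_centralizer_singleton_iff.1 g.2.2) :))⟩
  left_inv _ := rfl
  right_inv _ := rfl
  map_mul' _ _ := rfl

/-- The homomorphism of the centraliser. -/
noncomputable def centHom : Subgroup.centralizer ({tCo2} : Set Spor.Co2) →* SpSix.Sp2 :=
  toSp.comp centEquiv.toMonoidHom

theorem centHom_surjective : Function.Surjective centHom :=
  toSp_surjective.comp centEquiv.surjective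

/-- The kernels agree. -/
noncomputable def kerEquiv : toSp.ker ≃* centHom.ker where
  toFun x := ⟨centEquiv.symm x.1, by
    show toSp (centEquiv (centEquiv.symm x.1)) = 1
    rw [MulEquiv.apply_symm_apply]; exact x.2⟩
  invFun x := ⟨centEquiv x.1, x.2⟩
  left_inv _ := Subtype.ext (centEquiv.apply_symm_apply _)
  right_inv _ := Subtype.ext (centEquiv.symm_apply_apply _)
  map_mul' _ _ := rfl

theorem sp2_simple : IsSimpleGroup SpSix.Sp2 := by
  have := SpSix.range_simple.1
  exact (MonoidHom.ofInjective SpSix.phi_injective).isSimpleGroup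

theorem card_centKer : Nat.card centHom.ker = 2 ^ 9 := by
  rw [← Nat.card_congr kerEquiv.toEquiv, card_ker]
  norm_num

theorem pCore_cent : pCore 2 (Subgroup.centralizer ({tCo2} : Set Spor.Co2)) = centHom.ker := by
  refine le_antisymm ?_ (CfsgLib.Cores.le_pCore (IsPGroup.of_card card_centKer))
  rw [pCore, sSup_le_iff]
  rintro N ⟨hN, hp⟩
  have := sp2_simple
  rcases IsSimpleGroup.eq_bot_or_eq_top_of_normal _ (hN.map centHom centHom_surjective) with h | h
  · exact (Subgroup.map_eq_bot_iff _).1 h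
  · exfalso
    have hp2 : IsPGroup 2 (⊤ : Subgroup SpSix.Sp2) := h ▸ hp.map centHom
    have : Fact (Nat.Prime 2) := ⟨Nat.prime_two⟩
    obtain ⟨n, hn⟩ := IsPGroup.iff_card.1 hp2
    rw [Subgroup.card_top, SpSix.card_sp2] at hn
    have : (3 : ℕ) ∣ 2 ^ n := hn ▸ by norm_num
    exact absurd (Nat.prime_three.dvd_of_dvd_pow this) (by norm_num)

theorem co2_centralizer : ∃ t : ↥Spor.Co2, orderOf t = 2 ∧
    IsExtraspecial 2 (pCore 2 ↥(Subgroup.centralizer ({t} : Set ↥Spor.Co2))) ∧
    Nat.card (pCore 2 ↥(Subgroup.centralizer ({t} : Set ↥Spor.Co2))) = 2 ^ 9 ∧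
    Nonempty (↥(Subgroup.centralizer ({t} : Set ↥Spor.Co2)) ⧸
      pCore 2 ↥(Subgroup.centralizer ({t} : Set ↥Spor.Co2)) ≃*
        Matrix.symplecticGroup (Fin 3) (ZMod 2)) := by
  refine ⟨tCo2, orderOf_tCo2, ?_⟩
  refine ⟨CfsgLib.LargeExtra.isExtraspecial_of_mulEquiv
    (kerEquiv.trans (MulEquiv.subgroupCongr pCore_cent.symm)) ker_extraspecial,
    pCore_cent ▸ card_centKer, ?_⟩
  exact ⟨(QuotientGroup.quotientMulEquivOfEq pCore_cent).trans
    (QuotientGroup.quotientKerEquivOfSurjective centHom centHom_surjective)⟩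

end CfsgLib.Leech.CoTwo
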